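import Cfsg.Agent.Mrg.Omega.OM.Swap.Two
import Cfsg.Agent.Mrg.Omega.OM.Swap.Fam.NoOvM

section


/-!
# THEOREM SW, STEP 1 in the general form of helper87 (any q)

`One F T F₀ U l Z`: `T` Sylow in `F`, `F₀` the unique maximal subgroup over `T`, `U = ⟨l i⟩ ≤ O = O₂(F)` normalised by `T`,
`⟨U^F⟩` elementary abelian; (H1) `C_F(Z i) ≤ F₀`; (H2) a member of `𝒜(T)` centralises `l i` or `Z i ≤ [l i, A]`;
(H3) `Z i ≤ [U, O]`; (H4) `N_F(U) ≤ F₀`.

`One.exists_one` : there are an involution `c ∈ T` which moves `U` and `a ∈ F - F₀` which centralises `[U, c]`.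
-/

set_option autoImplicit false

namespace Cfsg.Agent.Omega.OM.Swap

open Subgroup Cfsg Cfsg.Agent.ZN Cfsg.Agent.ZN.ChoiceBase Cfsg.Agent.ZN.ChoiceSit
  Cfsg.Agent.MinSimple.VModule Cfsg.Agent.Omega.OmThm
open Cfsg.Agent.MinSimple.MinParabolic (IsMinPar)
open scoped Pointwise commutatorElement

universe u

/-- The general situation of STEP 1. -/
structure One {G : Type u} [Group G] {ι : Type*} (F T F₀ U : Subgroup G) (l Z : ι → Subgroup G) : Prop where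
  syl : Syl T F
  TF₀ : T ≤ F₀
  F₀F : F₀ < F
  max : ∀ K : Subgroup G, T ≤ K → K < F → K ≤ F₀
  nJ : ∃ A ∈ AA T, ¬ A ≤ o2 F
  ne : Nonempty ι
  UO : U ≤ o2 F
  TU : T ≤ normalizer (U : Set G)
  comm : ∀ x ∈ NoFF.Basic.V U F, ∀ y ∈ NoFF.Basic.V U F, x * y = y * x
  sq : ∀ x ∈ NoFF.Basic.V U F, x * x = 1
  sup : U = ⨆ i, l i
  H1 : ∀ i, ∀ f ∈ F, (∀ x ∈ Z i, f * x = x * f) → f ∈ F₀
  H2 : ∀ A ∈ AA T, ∀ i, (∀ a ∈ A, ∀ x ∈ l i, a * x = x * a) ∨
    Z i ≤ closure {y | ∃ x ∈ l i, ∃ a ∈ A, y = x * (a * x * a⁻¹)}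
  H3 : ∀ i, Z i ≤ ⁅U, o2 F⁆
  H4 : F ⊓ normalizer (U : Set G) ≤ F₀

variable {G : Type u} [Group G] {ι : Type*} {F T F₀ U : Subgroup G} {l Z : ι → Subgroup G}

namespace One

local notation "Λ" => NoFF.Basic.V U F

variable (h : One F T F₀ U l Z)
include h

theorem T2 : IsPGroup 2 T := h.syl.2.1

theorem TF : T ≤ F := h.syl.1

theorem OT [Finite G] : o2 F ≤ T := o2_le_syl h.syl

theorem l_le (i : ι) : l i ≤ U := by rw [h.sup]; exact le_iSup l i

theorem Lam_elab : IsElementaryAbelian 2 (Λ) := elab_of h.comm h.sq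

omit h in
theorem cjU_le_Lam {g : G} (hg : g ∈ F) : cj g U ≤ Λ := NoFF.Basic.Z_le_V hg

theorem Lam_le_O : Λ ≤ o2 F := NoFF.Basic.V_le fun p hp => by
  have h1 : cj p U ≤ cj p (o2 F) := cj_mono p h.UO
  rw [cj_o2_self hp] at h1
  exact h1

theorem Lam_le_F : Λ ≤ F := h.Lam_le_O.trans (ChoiceSit.o2_le F)

omit h in
theorem F_nor : F ≤ normalizer ((Λ : Subgroup G) : Set G) := XD.X_le_normalizer_W

omit h in
theorem conj_Lam {f x : G} (hf : f ∈ F) (hx : x ∈ Λ) : f * x * f⁻¹ ∈ Λ :=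
  (mem_normalizer_iff.1 (F_nor hf) x).1 hx

/-- (H1) conjugated -/
theorem H1' {g a : G} (hg : g ∈ F) (ha : a ∈ F) {i : ι} (hax : ∀ x ∈ cj g (Z i), a * x = x * a) : a ∈ cj g F₀ := by
  rw [mem_cj]
  refine h.H1 i _ (mul_mem (mul_mem (inv_mem hg) ha) hg) fun x hx => ?_
  have h1 := hax _ (conj_mem_cj (g := g) hx)
  have h2 := congrArg (fun t => g⁻¹ * t * g) h1
  have e1 : g⁻¹ * (a * (g * x * g⁻¹)) * g = g⁻¹ * a * g * x := by group
  have e2 : g⁻¹ * (g * x * g⁻¹ * a) * g = x * (g⁻¹ * a * g) := by group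
  rw [← e1, ← e2]
  exact h2

theorem F₀_le : F₀ ≤ F := h.F₀F.le

theorem nJ' [Finite G] : ∃ A ∈ AA F, A ≤ T ∧ ¬ A ≤ o2 F := by
  obtain ⟨A, hA, hA'⟩ := h.nJ
  exact ⟨A, AA_of_syl h.syl hA, hA.2.1, hA'⟩

theorem T_not_normal [Finite G] : ¬ F ≤ normalizer (T : Set G) := by
  intro h1
  obtain ⟨A, hA, hAT, hAO⟩ := h.nJ'
  exact hAO (hAT.trans (ChoiceSit.le_o2 h.T2 h.TF h1))

theorem NT [Finite G] : F ⊓ normalizer (T : Set G) ≤ F₀ :=
  h.max _ (le_inf h.TF le_normalizer) (lt_of_le_of_ne inf_le_left fun h1 =>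
    h.T_not_normal (inf_eq_left.1 h1))

theorem syl_F₀ : Syl T F₀ := ⟨h.TF₀, h.T2, fun Q hQ hQ2 hTQ => h.syl.2.2 Q (hQ.trans h.F₀_le) hQ2 hTQ⟩

theorem pt_of_eq [Finite G] {g g' : G} (hg : g ∈ F) (hg' : g' ∈ F) (he : cj g T = cj g' T) : g⁻¹ * g' ∈ F₀ := by
  refine h.NT (mem_inf.2 ⟨mul_mem (inv_mem hg) hg', ?_⟩)
  rw [mem_normalizer_iff_cj, ← cj_cj, ← he, cj_inv_cj]

theorem exists_cj [Finite G] {Q : Subgroup G} (hQ : IsPGroup 2 Q) (hQF : Q ≤ F) : ∃ g ∈ F, Q ≤ cj g T := by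
  obtain ⟨S, hS, hQS⟩ := exists_syl hQ hQF
  obtain ⟨x, hx, hxS⟩ := syl_conj h.syl hS
  exact ⟨x, hx, hxS ▸ hQS⟩

theorem exists_cj_pt [Finite G] {Q : Subgroup G} (hQ : IsPGroup 2 Q) {g : G} (hg : g ∈ F) (hQF : Q ≤ cj g F₀) :
    ∃ g' ∈ F, g⁻¹ * g' ∈ F₀ ∧ Q ≤ cj g' T := by
  have h1 : cj g⁻¹ Q ≤ F₀ := by rw [cj_le_iff, inv_inv]; exact hQF
  obtain ⟨S, hS, hQS⟩ := exists_syl (isPGroup_cj g⁻¹ hQ) h1
  obtain ⟨x, hx, hxS⟩ := syl_conj h.syl_F₀ hS
  refine ⟨g * x, mul_mem hg (h.F₀_le hx), by rwa [inv_mul_cancel_left], ?_⟩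
  rw [← cj_cj, hxS]
  have := cj_mono g hQS
  rwa [cj_cj_inv] at this

theorem le_cj_of {K : Subgroup G} {g : G} (hg : g ∈ F) (hT : cj g T ≤ K) (hK : K < F) : K ≤ cj g F₀ := by
  have h1 : cj g⁻¹ K ≤ F₀ := by
    refine h.max _ ?_ ?_
    · rw [← cj_inv_cj g T]
      exact cj_mono g⁻¹ hT
    · have h2 : cj g⁻¹ K ≤ F := by
        have := cj_mono g⁻¹ hK.le
        rwa [cj_self (inv_mem hg)] at this
      refine lt_of_le_of_ne h2 fun h3 => hK.ne ?_
      have := congrArg (cj g) h3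
      rwa [cj_cj_inv, cj_self hg] at this
  rw [← cj_cj_inv g K]
  exact cj_mono g h1

theorem cj_T_le {g : G} : cj g T ≤ cj g F₀ := cj_mono g h.TF₀

theorem O_le_cj [Finite G] {g : G} (hg : g ∈ F) : o2 F ≤ cj g T := by
  have := cj_mono g h.OT
  rwa [cj_o2_self hg] at this

theorem pt_of_le [Finite G] {g g' : G} (hg : g ∈ F) (hg' : g' ∈ F) (hle : cj g' T ≤ cj g F₀) : g⁻¹ * g' ∈ F₀ := by
  obtain ⟨k, hk, hk1, hk2⟩ := h.exists_cj_pt (isPGroup_cj g' h.T2) hg hle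
  have h1 : cj g' T = cj k T := eq_of_le_of_card_ge hk2 (by rw [card_cj, card_cj])
  have h2 := h.pt_of_eq hk hg' h1.symm
  have h3 := mul_mem hk1 h2
  have e : g⁻¹ * k * (k⁻¹ * g') = g⁻¹ * g' := by group
  rwa [e] at h3

theorem mem_of_cj_eq [Finite G] {a k : G} (ha : a ∈ F) (hk : k ∈ F) (he : cj a (cj k F₀) = cj k F₀) :
    a ∈ cj k F₀ := by
  rw [mem_cj]
  have hx : k⁻¹ * a * k ∈ F := mul_mem (mul_mem (inv_mem hk) ha) hk
  have h1 : cj (k⁻¹ * a * k) F₀ = F₀ := by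
    rw [← cj_cj, ← cj_cj, he, cj_inv_cj]
  have h2 := h.pt_of_le (one_mem F) hx (by rw [cj_one, ← h1]; exact cj_mono _ h.TF₀)
  rwa [inv_one, one_mul] at h2

/-! ### `R` -/

theorem grow [Finite G] {R : Subgroup G} (hR : JF F R = R) {g : G} (hg : g ∈ F) (hRg : R ≤ cj g T)
    (hno : ∀ A ∈ AA F, A ≤ cj g T → A ≤ normalizer (R : Set G) → A ≤ R) : JF F (cj g T) = R := by
  set P := cj g T with hP
  have hPF : P ≤ F := by
    have := cj_mono g h.TF
    rwa [cj_self hg] at this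
  set K := P ⊓ normalizer (R : Set G) with hK
  have hRK : R ≤ K := le_inf hRg le_normalizer
  have hJK : JF F K = R :=
    le_antisymm (sSup_le fun A hA => hno A hA.1 (hA.2.trans inf_le_left) (hA.2.trans inf_le_right))
      (hR.symm.le.trans (JF_mono hRK))
  have h1 : K = P := by
    apply ZN.ChoiceNse.eq_of_normalizer_inf_le (isPGroup_cj g h.T2) inf_le_left
    rintro x ⟨hx1, hx2⟩
    refine mem_inf.2 ⟨hx2, ?_⟩
    rw [mem_normalizer_iff_cj, ← hJK, cj_JF (hPF hx2), cj_eq_of_mem_normalizer hx1]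
  rw [← h1, hJK]

theorem exists_mx [Finite G] : ∃ R, Mx F T F₀ R := by
  classical
  obtain ⟨g₀, hg₀, hg₀'⟩ := SetLike.exists_of_lt h.F₀F
  obtain ⟨⟨g₁, g₂⟩, ⟨hg₁, hg₂, hne⟩, hmax⟩ := Set.exists_max_image
    {p : G × G | p.1 ∈ F ∧ p.2 ∈ F ∧ p.1⁻¹ * p.2 ∉ F₀} (fun p => Nat.card (JF F (cj p.1 T ⊓ cj p.2 T)))
    (Set.toFinite _) ⟨(1, g₀), one_mem _, hg₀, by simpa using hg₀'⟩
  simp only at hg₁ hg₂ hne hmax
  set R := JF F (cj g₁ T ⊓ cj g₂ T) with hRdef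
  have hR1 : R ≤ cj g₁ T := (JF_le _).trans inf_le_left
  have hR2 : R ≤ cj g₂ T := (JF_le _).trans inf_le_right
  have hgen : JF F R = R := JF_JF _
  have hRF : R ≤ F := JF_le_F _
  have hO : o2 F ≤ normalizer (R : Set G) := by
    intro o ho
    have hoF := ChoiceSit.o2_le F ho
    rw [mem_normalizer_iff_cj, hRdef, cj_JF hoF, cj_inf, cj_self (h.O_le_cj hg₁ ho), cj_self (h.O_le_cj hg₂ ho)]
  have hex : ∀ g g' : G, g ∈ F → g' ∈ F → R ≤ cj g T → R ≤ cj g' T → g⁻¹ * g' ∉ F₀ →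
      ∃ A ∈ AA F, A ≤ cj g T ∧ A ≤ normalizer (R : Set G) ∧ ¬ A ≤ R := by
    intro g g' hg hg' hRg hRg' hgg'
    by_contra hcon
    push Not at hcon
    have h1 := h.grow hgen hg hRg fun A hA hA1 hA2 => hcon A hA hA1 hA2
    have h2 : JF F (cj g' T) = R := by
      have h3 : R ≤ JF F (cj g' T) := hgen.symm.le.trans (JF_mono hRg')
      refine (eq_of_le_of_card_ge h3 ?_).symm
      have h4 : cj (g' * g⁻¹) (JF F (cj g T)) = JF F (cj g' T) := by
        rw [cj_JF (mul_mem hg' (inv_mem hg)), cj_cj, inv_mul_cancel_right]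
      rw [← h4, card_cj, h1]
    have hn : ∀ g ∈ F, JF F (cj g T) = R → cj g T ≤ normalizer (R : Set G) := by
      intro g hg he x hx
      have hxF : x ∈ F := by
        have := cj_mono g h.TF hx
        rwa [cj_self hg] at this
      rw [mem_normalizer_iff_cj, ← he, cj_JF hxF, cj_self hx]
    have hFn : ∀ g ∈ F, cj g T ≤ F := by
      intro g hg
      have := cj_mono g h.TF
      rwa [cj_self hg] at this
    have n1 := hn g hg h1
    have n2 := hn g' hg' h2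
    by_cases hF : F ≤ normalizer (R : Set G)
    · have h3 : R ≤ o2 F := ChoiceSit.le_o2 ((isPGroup_cj g h.T2).to_le hRg) hRF hF
      obtain ⟨A, hA, hAT, hAO⟩ := h.nJ'
      apply hAO
      have h4 : cj g A ≤ o2 F := (le_JF (AA_cj hg hA) (cj_mono g hAT)).trans (h1.le.trans h3)
      rw [cj_le_iff, cj_o2_self (inv_mem hg)] at h4
      exact h4
    · have hlt : F ⊓ normalizer (R : Set G) < F := lt_of_le_of_ne inf_le_left fun h4 => hF (inf_eq_left.1 h4)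
      have h3 := h.le_cj_of hg (le_inf (hFn g hg) n1) hlt
      exact hgg' (h.pt_of_le hg hg' ((le_inf (hFn g' hg') n2).trans h3))
  refine ⟨R, hRF, (isPGroup_cj g₁ h.T2).to_le hR1, hO, hgen, ?_, ?_⟩
  · intro A hA hAN hAR g hg g' hg' h1 h2
    by_contra hcon
    have h3 := hmax (g, g') ⟨hg, hg', hcon⟩
    simp only at h3
    have h4 : R ≤ JF F (cj g T ⊓ cj g' T) := hgen.symm.le.trans (JF_mono (le_inf (le_sup_left.trans h1) (le_sup_left.trans h2)))
    have h5 : R = JF F (cj g T ⊓ cj g' T) := eq_of_le_of_card_ge h4 h3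
    apply hAR
    rw [h5]
    exact le_JF hA (le_inf (le_sup_right.trans h1) (le_sup_right.trans h2))
  · obtain ⟨A, hA, hA1, hA2, hA3⟩ := hex g₁ g₂ hg₁ hg₂ hR1 hR2 hne
    obtain ⟨A', hA', hA1', hA2', hA3'⟩ := hex g₂ g₁ hg₂ hg₁ hR2 hR1 fun h1 => hne (by
      have := inv_mem h1
      rwa [mul_inv_rev, inv_inv] at this)
    exact ⟨A, hA, A', hA', hA2, hA3, hA2', hA3', g₁, hg₁, g₂, hg₂, sup_le hR1 hA1, sup_le hR2 hA1', hne⟩

end One

/-- The panel. -/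
structure GPan (F T F₀ U R A Y Rs : Subgroup G) (g : G) : Prop where
  mx : Mx F T F₀ R
  hA : A ∈ AA F
  AN : A ≤ normalizer (R : Set G)
  AR : ¬ A ≤ R
  Amax : ∀ B ∈ AA F, B ≤ normalizer (R : Set G) → ¬ B ≤ R →
    Nat.card ↥(B ⊓ NoFF.Basic.V U F) ≤ Nat.card ↥(A ⊓ NoFF.Basic.V U F)
  gF : g ∈ F
  YF : Y ≤ F
  YN : Y ≤ normalizer (R : Set G)
  syl : Syl Rs Y
  ORs : o2 F ≤ Rs
  RRs : R ≤ Rs
  ARs : A ≤ Rs
  RsT : Rs ≤ cj g T
  max : ∀ K : Subgroup G, o2 F ⊔ R ⊔ A ≤ K → K < Y → K ≤ cj g F₀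
  nY : ¬ Y ≤ cj g F₀

theorem One.exists_pan [Finite G] (h : One F T F₀ U l Z) : ∃ R A Y Rs g, GPan F T F₀ U R A Y Rs g := by
  classical
  obtain ⟨R, hR⟩ := h.exists_mx
  obtain ⟨A₁, hA₁, A₂, hA₂, hN₁, hR₁, hN₂, hR₂, g₁, hg₁, g₂, hg₂, hT₁, hT₂, hne⟩ := hR.ex
  obtain ⟨A, ⟨hA, hAN, hAR⟩, hmax⟩ := Set.exists_max_image
    {A : Subgroup G | A ∈ AA F ∧ A ≤ normalizer (R : Set G) ∧ ¬ A ≤ R} (fun A => Nat.card ↥(A ⊓ NoFF.Basic.V U F))
    (Set.toFinite _) ⟨A₁, hA₁, hN₁, hR₁⟩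
  have two : ∀ B ∈ AA F, B ≤ normalizer (R : Set G) → IsPGroup 2 (o2 F ⊔ R ⊔ B : Subgroup G) := by
    intro B hB hBN
    have : Fact (Nat.Prime 2) := ⟨Nat.prime_two⟩
    have h1 : IsPGroup 2 (o2 F ⊔ R : Subgroup G) :=
      IsPGroup.to_sup_of_normal_right' (ChoiceSit.isPGroup_o2 F) hR.R2 hR.On
    refine IsPGroup.to_sup_of_normal_left' h1 (isPGroup_of_elab hB.1) ?_
    intro b hb
    rw [mem_normalizer_iff_cj]
    have e : cj b (o2 F ⊔ R) = cj b (o2 F) ⊔ cj b R := Subgroup.map_sup _ _ _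
    rw [e, cj_o2_self (hB.2.1 hb), cj_eq_of_mem_normalizer (hBN hb)]
  have leF : ∀ B ∈ AA F, o2 F ⊔ R ⊔ B ≤ F := fun B hB => sup_le (sup_le (ChoiceSit.o2_le F) hR.RF) hB.2.1
  obtain ⟨gA, hgA, hTA⟩ := h.exists_cj (two A hA hAN) (leF A hA)
  have hRA : R ⊔ A ≤ cj gA T := (sup_le_sup_right le_sup_right A).trans hTA
  have ex : ∃ B ∈ AA F, B ≤ normalizer (R : Set G) ∧ ¬ B ≤ R ∧ ∃ g ∈ F, R ⊔ B ≤ cj g T ∧ gA⁻¹ * g ∉ F₀ := by
    by_cases h1 : gA⁻¹ * g₁ ∈ F₀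
    · refine ⟨A₂, hA₂, hN₂, hR₂, g₂, hg₂, hT₂, fun h2 => hne ?_⟩
      have h3 := mul_mem (inv_mem h1) h2
      have e : (gA⁻¹ * g₁)⁻¹ * (gA⁻¹ * g₂) = g₁⁻¹ * g₂ := by group
      rwa [e] at h3
    · exact ⟨A₁, hA₁, hN₁, hR₁, g₁, hg₁, hT₁, h1⟩
  obtain ⟨A', ⟨hA', hAN', hAR', g', hg', hT', hne'⟩, hmin⟩ := Set.exists_min_image
    {B : Subgroup G | B ∈ AA F ∧ B ≤ normalizer (R : Set G) ∧ ¬ B ≤ R ∧ ∃ g ∈ F, R ⊔ B ≤ cj g T ∧ gA⁻¹ * g ∉ F₀}
    (fun B => Nat.card ↥(o2 F ⊔ R ⊔ A ⊔ B)) (Set.toFinite _) ex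
  set Y := o2 F ⊔ R ⊔ A ⊔ A' with hY
  have hYF : Y ≤ F := sup_le (leF A hA) hA'.2.1
  have hYN : Y ≤ normalizer (R : Set G) := sup_le (sup_le (sup_le hR.On le_normalizer) hAN) hAN'
  have hQY : o2 F ⊔ R ⊔ A ≤ Y := le_sup_left
  have hYn : ¬ Y ≤ cj gA F₀ := by
    intro h1
    have h2 : R ⊔ A' ≤ cj gA F₀ := (sup_le (le_sup_right.trans (le_sup_left.trans le_sup_left)) le_sup_right).trans h1
    have h3 : IsPGroup 2 (R ⊔ A' : Subgroup G) := (two A' hA' hAN').to_le (sup_le_sup_right le_sup_right A')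
    obtain ⟨k, hk, hk1, hk2⟩ := h.exists_cj_pt h3 hgA h2
    have h4 := hR.one A' hA' hAN' hAR' k hk g' hg' hk2 hT'
    have h5 := mul_mem hk1 h4
    have e : gA⁻¹ * k * (k⁻¹ * g') = gA⁻¹ * g' := by group
    rw [e] at h5
    exact hne' h5
  have hKmax : ∀ K : Subgroup G, o2 F ⊔ R ⊔ A ≤ K → K < Y → K ≤ cj gA F₀ := by
    intro K hQK hKY
    by_contra hcon
    obtain ⟨k, hkK, hk⟩ := SetLike.not_le_iff_exists.1 hcon
    have hkY : k ∈ Y := hKY.le hkK
    have hkF : k ∈ F := hYF hkY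
    have hkR : cj k R = R := cj_eq_of_mem_normalizer (hYN hkY)
    have h1 : cj k A ∈ AA F := AA_cj hkF hA
    have h2 : cj k A ≤ K := by
      have := cj_mono k (le_sup_right.trans hQK : A ≤ K)
      rwa [cj_self hkK] at this
    have h3 : ¬ cj k A ≤ R := by
      intro h4
      apply hAR
      rw [← hkR] at h4
      have := cj_mono k⁻¹ h4
      rwa [cj_inv_cj, cj_inv_cj] at this
    have h4 : R ⊔ cj k A ≤ cj (k * gA) T := by
      rw [← hkR, ← cj_cj]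
      refine sup_le ?_ ?_
      · rw [hkR, ← hkR]
        exact cj_mono k (le_sup_left.trans hRA)
      · exact cj_mono k (le_sup_right.trans hRA)
    have h5 : gA⁻¹ * (k * gA) ∉ F₀ := by
      intro h6
      apply hk
      rw [mem_cj]
      rwa [← mul_assoc] at h6
    have h6 := hmin (cj k A) ⟨h1, h2.trans (hKY.le.trans hYN), h3, k * gA, mul_mem hkF hgA, h4, h5⟩
    have h7 : o2 F ⊔ R ⊔ A ⊔ cj k A ≤ K := sup_le hQK h2
    have h8 : Nat.card Y ≤ Nat.card K := h6.trans (Subgroup.card_le_of_le h7)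
    exact hKY.ne (eq_of_le_of_card_ge hKY.le h8)
  obtain ⟨Rs, hRs, hQRs⟩ := exists_syl (two A hA hAN) hQY
  obtain ⟨g, hg, hRsg⟩ := h.exists_cj hRs.2.1 (hRs.1.trans hYF)
  have hpt : gA⁻¹ * g ∈ F₀ := hR.one A hA hAN hAR gA hgA g hg hRA
    (((sup_le_sup_right le_sup_right A).trans hQRs).trans hRsg)
  have hFe : cj g F₀ = cj gA F₀ := by
    have : g = gA * (gA⁻¹ * g) := by group
    rw [this, ← cj_cj, cj_self hpt]
  refine ⟨R, A, Y, Rs, g, hR, hA, hAN, hAR, fun B hB h1 h2 => hmax B ⟨hB, h1, h2⟩, hg, hYF, hYN, hRs,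
    (le_sup_left.trans le_sup_left).trans hQRs, (le_sup_right.trans le_sup_left).trans hQRs,
    le_sup_right.trans hQRs, hRsg, ?_, ?_⟩
  · rw [hFe]
    exact hKmax
  · rw [hFe]
    exact hYn

namespace GPan

local notation "Λ" => NoFF.Basic.V U F

variable {R A Y Rs : Subgroup G} {g : G} (p : GPan F T F₀ U R A Y Rs g)
include p

theorem RsY : Rs ≤ Y := p.syl.1

theorem Rs2 : IsPGroup 2 Rs := p.syl.2.1

theorem AY : A ≤ Y := p.ARs.trans p.RsY

theorem RY : R ≤ Y := p.RRs.trans p.RsY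

theorem OY : o2 F ≤ Y := p.ORs.trans p.RsY

theorem R_le_o2 [Finite G] : R ≤ o2 Y := ChoiceSit.le_o2 p.mx.R2 p.RY p.YN

theorem O_le_o2 [Finite G] : o2 F ≤ o2 Y :=
  ChoiceSit.le_o2 (ChoiceSit.isPGroup_o2 F) p.OY (p.YF.trans (ChoiceSit.le_normalizer_o2 F))

theorem o2_le_Rs [Finite G] : o2 Y ≤ Rs := o2_le_syl p.syl

theorem o2_le_cj [Finite G] {y : G} (hy : y ∈ Y) : o2 Y ≤ cj (y * g) T := by
  have h1 := cj_mono y (p.o2_le_Rs.trans p.RsT)
  rwa [cj_o2_self hy, cj_cj] at h1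

theorem yF {y : G} (hy : y ∈ Y) : y * g ∈ F := mul_mem (p.YF hy) p.gF

theorem RsF₀ (h : One F T F₀ U l Z) : Rs ≤ cj g F₀ := p.RsT.trans h.cj_T_le

theorem not_normal [Finite G] : ¬ Y ≤ normalizer (Rs : Set G) := by
  intro h1
  have h3 : Rs ≤ o2 Y := ChoiceSit.le_o2 p.Rs2 p.RsY h1
  obtain ⟨y, hy, hyn⟩ := SetLike.not_le_iff_exists.1 p.nY
  have h4 : R ⊔ A ≤ cj (y * g) T := (sup_le p.RRs p.ARs).trans (h3.trans (p.o2_le_cj hy))
  have h5 := p.mx.one A p.hA p.AN p.AR g p.gF _ (p.yF hy) ((sup_le p.RRs p.ARs).trans p.RsT) h4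
  apply hyn
  rw [mem_cj]
  rwa [← mul_assoc] at h5

theorem max' {K : Subgroup G} (hK : Rs ≤ K) (hKY : K < Y) : K ≤ cj g F₀ :=
  p.max K (sup_le (sup_le (p.ORs.trans hK) (p.RRs.trans hK)) (p.ARs.trans hK)) hKY

theorem lt : Y ⊓ cj g F₀ < Y :=
  lt_of_le_of_ne inf_le_left fun h1 => p.nY (inf_eq_left.1 h1)

theorem par [Finite G] : IsMinPar Rs Y :=
  ⟨p.RsY, p.not_normal, Y ⊓ cj g F₀, p.lt, fun _ hK hKY => le_inf hKY.le (p.max' hK hKY)⟩

theorem not_fix [Finite G] (h : One F T F₀ U l Z) {y : G} (hy : y ∈ Y) (hyn : y ∉ cj g F₀) :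
    ¬ A ≤ cj (y * g) F₀ := by
  intro h1
  have h2 : R ⊔ A ≤ cj (y * g) F₀ := sup_le ((p.R_le_o2.trans (p.o2_le_cj hy)).trans h.cj_T_le) h1
  have h3 : IsPGroup 2 (R ⊔ A : Subgroup G) := p.Rs2.to_le (sup_le p.RRs p.ARs)
  obtain ⟨k, hk, hk1, hk2⟩ := h.exists_cj_pt h3 (p.yF hy) h2
  have h4 := p.mx.one A p.hA p.AN p.AR g p.gF k hk ((sup_le p.RRs p.ARs).trans p.RsT) hk2
  apply hyn
  have h5 := mul_mem h4 (inv_mem hk1)
  have e : g⁻¹ * k * ((y * g)⁻¹ * k)⁻¹ = g⁻¹ * y * g := by group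
  rw [e] at h5
  rwa [mem_cj]

theorem ker [Finite G] (h : One F T F₀ U l Z) {a : G} (ha : a ∈ A) (hfix : ∀ y ∈ Y, a ∈ cj (y * g) F₀) : a ∈ o2 Y := by
  have : Fact (Nat.Prime 2) := ⟨Nat.prime_two⟩
  set N : Subgroup G := Y ⊓ ⨅ y : Y, cj ((y : G) * g) F₀ with hN
  have hmemN : ∀ x, x ∈ N ↔ x ∈ Y ∧ ∀ y ∈ Y, x ∈ cj (y * g) F₀ := by
    intro x
    rw [hN, mem_inf, mem_iInf]
    exact ⟨fun h => ⟨h.1, fun y hy => h.2 ⟨y, hy⟩⟩, fun h => ⟨h.1, fun y => h.2 y y.2⟩⟩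
  have hYn : Y ≤ normalizer (N : Set G) := by
    intro x hx
    refine mem_normalizer_of_cj_le fun w hw => ?_
    rw [mem_cj, hmemN] at hw
    rw [hmemN]
    constructor
    · have := mul_mem (mul_mem hx hw.1) (inv_mem hx)
      have e : x * (x⁻¹ * w * x) * x⁻¹ = w := by group
      rwa [e] at this
    · intro y hy
      have h1 := hw.2 (x⁻¹ * y) (mul_mem (inv_mem hx) hy)
      rw [mem_cj] at h1 ⊢
      have e : (x⁻¹ * y * g)⁻¹ * (x⁻¹ * w * x) * (x⁻¹ * y * g) = (y * g)⁻¹ * w * (y * g) := by group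
      rwa [e] at h1
  rcases p.par.sup_eq_or_inf_le p.Rs2 (syl_not_dvd p.syl) inf_le_left hYn with h1 | h1
  · exfalso
    apply p.nY
    rw [← h1]
    refine sup_le (fun x hx => ?_) (p.RsF₀ h)
    have := ((hmemN x).1 hx).2 1 (one_mem _)
    rwa [one_mul] at this
  · exact h1 ⟨p.ARs ha, (hmemN a).2 ⟨p.AY ha, hfix⟩⟩

theorem A_not_le [Finite G] (h : One F T F₀ U l Z) : ¬ A ≤ o2 Y := by
  intro h1
  obtain ⟨y, hy, hyn⟩ := SetLike.not_le_iff_exists.1 p.nY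
  exact p.not_fix h hy hyn (h1.trans ((p.o2_le_cj hy).trans h.cj_T_le))

/-- **(a)** -/
theorem quad [Finite G] (h : One F T F₀ U l Z) {y : G} (hy : y ∈ Y) (hyn : y ∉ cj g F₀) {i : ι} {x : G}
    (hx : x ∈ cj (y * g) (l i)) {a b : G} (ha : a ∈ A) (hb : b ∈ A) :
    b * (x * (a * x * a⁻¹)) = x * (a * x * a⁻¹) * b := by
  classical
  set k := y * g with hk
  have hkF : k ∈ F := p.yF hy
  set lk := cj k (l i) with hl
  have hlΛ : lk ≤ Λ := (cj_mono k (h.l_le i)).trans (One.cjU_le_Lam hkF)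
  have hcomm := h.comm
  -- `[x, b]` centralised by `a` iff `[x, a]` centralised by `b`
  have swap : ∀ x ∈ lk, ∀ a ∈ A, ∀ b ∈ A, b * (x * (a * x * a⁻¹)) = x * (a * x * a⁻¹) * b →
      a * (x * (b * x * b⁻¹)) = x * (b * x * b⁻¹) * a := by
    intro x hx a ha b hb h1
    have hxΛ := hlΛ hx
    have hax := One.conj_Lam (p.hA.2.1 ha) hxΛ
    have hbx := One.conj_Lam (p.hA.2.1 hb) hxΛ
    have hab : a * b = b * a := elab_comm p.hA.1 a ha b hb
    have hab' : b⁻¹ * a⁻¹ = a⁻¹ * b⁻¹ := by rw [← mul_inv_rev, ← mul_inv_rev, hab]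
    have hxx := h.sq x hxΛ
    have h2 : b * (x * (a * x * a⁻¹)) * b⁻¹ = x * (a * x * a⁻¹) := by rw [h1, mul_inv_cancel_right]
    have e1 : b * (x * (a * x * a⁻¹)) * b⁻¹ = (b * x * b⁻¹) * (b * a * x * a⁻¹ * b⁻¹) := by group
    have e2 : a * (x * (b * x * b⁻¹)) * a⁻¹ = (a * x * a⁻¹) * (b * a * x * a⁻¹ * b⁻¹) := by
      calc a * (x * (b * x * b⁻¹)) * a⁻¹ = (a * x * a⁻¹) * ((a * b) * x * (b⁻¹ * a⁻¹)) := by group
        _ = (a * x * a⁻¹) * ((b * a) * x * (a⁻¹ * b⁻¹)) := by rw [hab, hab']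
        _ = _ := by group
    rw [e1] at h2
    -- `w = b a x a⁻¹ b⁻¹ = (b x b⁻¹)⁻¹ x (a x a⁻¹)`
    have hbb := h.sq _ hbx
    have haa := h.sq _ hax
    have e3 : b * a * x * a⁻¹ * b⁻¹ = (b * x * b⁻¹) * (x * (a * x * a⁻¹)) := by
      rw [← h2, ← mul_assoc, hbb, one_mul]
    have h3 : a * (x * (b * x * b⁻¹)) * a⁻¹ = x * (b * x * b⁻¹) := by
      rw [e2, e3]
      have c1 := hcomm _ hax _ hbx
      have c2 := hcomm x hxΛ _ hax
      have c3 := hcomm x hxΛ _ hbx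
      calc (a * x * a⁻¹) * ((b * x * b⁻¹) * (x * (a * x * a⁻¹)))
          = ((a * x * a⁻¹) * (b * x * b⁻¹)) * (x * (a * x * a⁻¹)) := by group
        _ = ((b * x * b⁻¹) * (a * x * a⁻¹)) * ((a * x * a⁻¹) * x) := by rw [c1, c2]
        _ = (b * x * b⁻¹) * ((a * x * a⁻¹) * (a * x * a⁻¹)) * x := by group
        _ = x * (b * x * b⁻¹) := by rw [haa, mul_one, c3]
    rw [mul_inv_eq_iff_eq_mul] at h3
    exact h3
  have hmain : ⁅lk, A⁆ ≤ centralizer (A : Set G) := by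
    by_contra hcon
    have h1 := rep p.hA h.Lam_elab h.Lam_le_F One.F_nor hlΛ
    have h2 := rep_lt p.hA h.Lam_elab h.Lam_le_F One.F_nor hlΛ hcon
    have h3 := rep_cent p.hA h.Lam_elab h.Lam_le_F One.F_nor hlΛ
    set B : Subgroup G := A ⊓ centralizer ((⁅lk, A⁆ : Subgroup G) : Set G) with hB
    set C : Subgroup G := Λ ⊓ centralizer (B : Set G) with hC
    set Ap : Subgroup G := B ⊔ C with hAp
    have hApN : Ap ≤ normalizer (R : Set G) :=
      sup_le (inf_le_left.trans p.AN) (inf_le_left.trans (h.Lam_le_O.trans p.mx.On))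
    have hApR : Ap ≤ R := by
      by_contra h4
      exact absurd (p.Amax Ap h1.2 hApN h4) (not_le.2 h2)
    have hApk : Ap ≤ cj k T := hApR.trans (p.R_le_o2.trans (p.o2_le_cj hy))
    have hAp' : cj k⁻¹ Ap ∈ AA T := by
      have h4 : cj k⁻¹ Ap ≤ T := by
        rw [cj_le_iff, inv_inv]
        exact hApk
      exact AA_of_le (AA_cj (inv_mem hkF) h1.2) h4 h.TF
    rcases h.H2 _ hAp' i with h4 | h4
    · -- `Ap` centralises `l`
      apply hcon
      have h5 : ⁅lk, A⁆ = ⊥ := by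
        refine commutator_eq_bot_iff_le_centralizer.2 (h3 fun b hb u hu => ?_)
        have h6 := h4 (k⁻¹ * b * k) (by
          have := conj_mem_cj (g := k⁻¹) ((le_sup_left : B ≤ Ap) hb)
          rwa [inv_inv] at this) _ (mem_cj.1 hu)
        have e1 : k⁻¹ * b * k * (k⁻¹ * u * k) = k⁻¹ * (b * u) * k := by group
        have e2 : k⁻¹ * u * k * (k⁻¹ * b * k) = k⁻¹ * (u * b) * k := by group
        rw [e1, e2] at h6
        exact mul_left_cancel (mul_right_cancel h6)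
      rw [h5]
      exact bot_le
    · -- `A` centralises `Z i`
      refine p.not_fix h hy hyn fun a ha => h.H1' (i := i) hkF (p.hA.2.1 ha) fun x hx => ?_
      have h5 : cj k (Z i) ≤ centralizer (A : Set G) := by
        refine (cj_mono k h4).trans ?_
        rw [cj_le_iff, closure_le]
        rintro _ ⟨x, hx, a', ha', rfl⟩
        have h6 : k * x * k⁻¹ ∈ lk := conj_mem_cj hx
        have h7 : k * a' * k⁻¹ ∈ Ap := by
          have h11 := mem_cj.1 ha'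
          rwa [inv_inv] at h11
        -- the commutator with `Ap` is a commutator with `B`
        obtain ⟨b, hb, c, hc, hbc⟩ : ∃ b ∈ B, ∃ c ∈ C, b * c = k * a' * k⁻¹ := by
          refine NO3b.CTwo.mem_sup_of_le_norm (fun b hb => ?_) h7
          refine centralizer_le_normalizer _ ?_
          rw [mem_centralizer_iff]
          intro c hc
          exact (mem_centralizer_iff.1 hc.2 b hb).symm
        have h8 : c * (k * x * k⁻¹) = (k * x * k⁻¹) * c := hcomm c hc.1 _ (hlΛ h6)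
        have h9 : (k * a' * k⁻¹) * (k * x * k⁻¹) * (k * a' * k⁻¹)⁻¹ = b * (k * x * k⁻¹) * b⁻¹ := by
          rw [← hbc]
          calc b * c * (k * x * k⁻¹) * (b * c)⁻¹ = b * (c * (k * x * k⁻¹)) * c⁻¹ * b⁻¹ := by group
            _ = b * ((k * x * k⁻¹) * c) * c⁻¹ * b⁻¹ := by rw [h8]
            _ = _ := by group
        have h10 : ∀ a ∈ A, a * ((k * x * k⁻¹) * (b * (k * x * k⁻¹) * b⁻¹)) =
            ((k * x * k⁻¹) * (b * (k * x * k⁻¹) * b⁻¹)) * a := by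
          intro a ha
          refine swap _ h6 a ha b hb.1 ?_
          have hxi : (k * x * k⁻¹)⁻¹ = k * x * k⁻¹ := inv_eq_of_mul_eq_one_left (h.sq _ (hlΛ h6))
          have h11 : ⁅k * x * k⁻¹, a⁆ = (k * x * k⁻¹) * (a * (k * x * k⁻¹) * a⁻¹) := by
            calc ⁅k * x * k⁻¹, a⁆ = (k * x * k⁻¹) * (a * (k * x * k⁻¹)⁻¹ * a⁻¹) := by
                  rw [commutatorElement_def]; group
              _ = _ := by rw [hxi]
          rw [← h11]
          exact (mem_centralizer_iff.1 hb.2 _ (commutator_mem_commutator h6 ha)).symm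
        change x * (a' * x * a'⁻¹) ∈ cj k⁻¹ (centralizer (A : Set G))
        rw [mem_cj, inv_inv, mem_centralizer_iff]
        intro a ha
        have e : k * (x * (a' * x * a'⁻¹)) * k⁻¹ =
            (k * x * k⁻¹) * ((k * a' * k⁻¹) * (k * x * k⁻¹) * (k * a' * k⁻¹)⁻¹) := by group
        rw [e, h9]
        exact h10 a ha
      exact mem_centralizer_iff.1 (h5 hx) a ha
  have hxi : x⁻¹ = x := inv_eq_of_mul_eq_one_left (h.sq x (hlΛ hx))
  have h1 : ⁅x, a⁆ = x * (a * x * a⁻¹) := by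
    rw [commutatorElement_def, hxi]; group
  rw [← h1]
  exact mem_centralizer_iff.1 (hmain (commutator_mem_commutator hx ha)) b hb

/-- The group `K' = ⟨U^{yg} : y ∈ Y moves the point⟩`. -/
def KK (U F₀ Y : Subgroup G) (g : G) : Subgroup G :=
  ⨆ y : {y : G // y ∈ Y ∧ y ∉ cj g F₀}, cj ((y : G) * g) U

omit p in
theorem le_KK {y : G} (hy : y ∈ Y) (hyn : y ∉ cj g F₀) : cj (y * g) U ≤ KK U F₀ Y g :=
  le_iSup (fun y : {y : G // y ∈ Y ∧ y ∉ cj g F₀} => cj ((y : G) * g) U) ⟨y, hy, hyn⟩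

theorem KK_le : KK U F₀ Y g ≤ Λ := iSup_le fun y => One.cjU_le_Lam (p.yF y.2.1)

/-- The subgroup of `Λ` on which `a, b` act quadratically. -/
theorem quad_sup [Finite G] (h : One F T F₀ U l Z) {a b : G} (ha : a ∈ A) {κ : Sort*} {W : κ → Subgroup G}
    (hW : ∀ k, W k ≤ Λ) (hq : ∀ k, ∀ x ∈ W k, b * (x * (a * x * a⁻¹)) = x * (a * x * a⁻¹) * b) {x : G}
    (hx : x ∈ ⨆ k, W k) : b * (x * (a * x * a⁻¹)) = x * (a * x * a⁻¹) * b := by
  have haF := p.hA.2.1 ha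
  let L : Subgroup G :=
    { carrier := {x | x ∈ Λ ∧ b * (x * (a * x * a⁻¹)) = x * (a * x * a⁻¹) * b}
      one_mem' := ⟨one_mem _, by simp⟩
      mul_mem' := by
        rintro x w ⟨hx, hx'⟩ ⟨hw, hw'⟩
        refine ⟨mul_mem hx hw, ?_⟩
        have h1 := h.comm w hw _ (One.conj_Lam haF hx)
        have e : x * w * (a * (x * w) * a⁻¹) = (x * (a * x * a⁻¹)) * (w * (a * w * a⁻¹)) := by
          calc x * w * (a * (x * w) * a⁻¹) = x * (w * (a * x * a⁻¹)) * (a * w * a⁻¹) := by group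
            _ = x * ((a * x * a⁻¹) * w) * (a * w * a⁻¹) := by rw [h1]
            _ = _ := by group
        rw [e]
        calc b * ((x * (a * x * a⁻¹)) * (w * (a * w * a⁻¹))) = (b * (x * (a * x * a⁻¹))) * (w * (a * w * a⁻¹)) := by
              group
          _ = (x * (a * x * a⁻¹)) * (b * (w * (a * w * a⁻¹))) := by rw [hx']; group
          _ = _ := by rw [hw']; group
      inv_mem' := by
        rintro x ⟨hx, hx'⟩
        have : x⁻¹ = x := inv_eq_of_mul_eq_one_left (h.sq x hx)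
        rw [this]
        exact ⟨hx, hx'⟩ }
  have hL : (⨆ k, W k) ≤ L := iSup_le fun k w hw => ⟨hW k hw, hq k w hw⟩
  exact (hL hx).2

/-- quadratic on `U^{yg}` -/
theorem quad' [Finite G] (h : One F T F₀ U l Z) {y : G} (hy : y ∈ Y) (hyn : y ∉ cj g F₀) {x : G}
    (hx : x ∈ cj (y * g) U) {a b : G} (ha : a ∈ A) (hb : b ∈ A) :
    b * (x * (a * x * a⁻¹)) = x * (a * x * a⁻¹) * b := by
  have hx' : x ∈ ⨆ i, cj (y * g) (l i) := by
    rw [← cj_iSup, ← h.sup]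
    exact hx
  exact p.quad_sup h ha (fun i => (cj_mono _ (h.l_le i)).trans (One.cjU_le_Lam (p.yF hy)))
    (fun i x hx => p.quad h hy hyn hx ha hb) hx'

/-- **(b), first case.** -/
theorem not_case_one [Finite G] (h : One F T F₀ U l Z) (hc : A ⊓ o2 Y ≤ centralizer (KK U F₀ Y g : Set G)) :
    ¬ cj g U ≤ KK U F₀ Y g := by
  intro hle
  set VA := cj g U with hVA
  set ΛY := NoFF.Basic.V VA Y with hΛY
  have hΛK : ΛY ≤ KK U F₀ Y g := by
    refine NoFF.Basic.V_le fun y hy => ?_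
    change cj y (cj g U) ≤ _
    rw [cj_cj]
    by_cases hyn : y ∈ cj g F₀
    · have h1 : cj y (KK U F₀ Y g) ≤ KK U F₀ Y g := by
        rw [KK, cj_iSup]
        refine iSup_le fun w => ?_
        rw [cj_cj, ← mul_assoc]
        refine le_KK (mul_mem hy w.2.1) fun h2 => w.2.2 ?_
        have := mul_mem (inv_mem hyn) h2
        rwa [inv_mul_cancel_left] at this
      rw [← cj_cj]
      exact (cj_mono y hle).trans h1
    · exact le_KK hy hyn
  have hΛL : ΛY ≤ Λ := hΛK.trans p.KK_le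
  have hel : IsElementaryAbelian 2 ΛY := elab_mono h.Lam_elab hΛL
  obtain ⟨i⟩ := h.ne
  have hYgen : Y ≤ oddGen Y ⊔ Rs := (Dich.oddGen_sup_syl p.syl).ge
  have xd : XD Rs Y VA := by
    refine ⟨p.Rs2, p.RsY, hYgen, p.o2_le_Rs, ?_, elab_comm hel, elab_sq hel, ?_⟩
    · refine p.RsT.trans ?_
      rw [← cj_normalizer]
      exact cj_mono g h.TU
    · intro h1
      apply p.nY
      have h2 : Y ≤ cj g (F ⊓ normalizer (U : Set G)) := by
        rw [cj_inf, cj_self p.gF, cj_normalizer]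
        exact le_inf p.YF h1
      exact h2.trans (cj_mono g h.H4)
  have hno : NoOv Y ΛY := noOv p.syl p.par (elab_comm hel) (elab_sq hel)
  have h2 : ∃ c ∈ (⁅ΛY, o2 Y⁆ : Subgroup G), ∃ x ∈ oddGen Y, c * x ≠ x * c := by
    by_contra hcon
    push Not at hcon
    apply p.nY
    refine hYgen.trans (sup_le (fun x hx => ?_) (p.RsF₀ h))
    refine h.H1' (i := i) p.gF (p.YF (oddGen_le Y hx)) fun c hc' => (hcon c ?_ x hx).symm
    have h3 := cj_mono g (h.H3 i) hc'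
    have h4 : cj g (⁅U, o2 F⁆ : Subgroup G) = ⁅cj g U, cj g (o2 F)⁆ := map_commutator _ _ _
    rw [h4, cj_o2_self p.gF] at h3
    refine commutator_mono ?_ p.O_le_o2 h3
    have := NoFF.Basic.Z_le_V (Z := VA) (P := Y) (one_mem Y)
    rwa [map_one, one_smul] at this
  have h3 := xd.sq_le hno h2 p.AY (elab_sq p.hA.1)
  have h4 := relIndex_le p.hA hel (hΛL.trans h.Lam_le_F)
  have h5 : (centralizer (ΛY : Set G)).relIndex A ≤ (o2 Y).relIndex A := by
    rw [← inf_relIndex_right (o2 Y) A]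
    refine relIndex_le_of_le_left ?_ (relIndex_ne _ _)
    rw [inf_comm]
    exact hc.trans (centralizer_le hΛK)
  have h6 := h3.trans (h4.trans h5)
  have h7 : 0 < (o2 Y).relIndex A := Nat.pos_of_ne_zero (relIndex_ne _ _)
  have h8 : (o2 Y).relIndex A ≤ 1 := Nat.le_of_mul_le_mul_left (h6.trans (by omega)) h7
  exact p.A_not_le h (relIndex_eq_one.1 (by omega))

/-- **(b)** -/
theorem not_cent [Finite G] (h : One F T F₀ U l Z) : ¬ A ⊓ o2 Y ≤ centralizer (KK U F₀ Y g : Set G) := by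
  classical
  intro hc
  have hno := p.not_case_one h hc
  have hAg : A ≤ cj g F₀ := p.ARs.trans (p.RsF₀ h)
  let P : Type u := {K : Subgroup G // ∃ y ∈ Y, y ∉ cj g F₀ ∧ K = cj (y * g) F₀}
  have hmemA : ∀ (a : A) (K : P), ∃ y ∈ Y, y ∉ cj g F₀ ∧ cj (a : G) K.1 = cj (y * g) F₀ := by
    rintro a ⟨K, y, hy, hyn, rfl⟩
    refine ⟨a * y, mul_mem (p.AY a.2) hy, fun h1 => hyn ?_, by rw [cj_cj, mul_assoc]⟩
    have := mul_mem (inv_mem (hAg a.2)) h1
    rwa [inv_mul_cancel_left] at this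
  let act : MulAction A P :=
    { smul := fun a K => ⟨cj (a : G) K.1, hmemA a K⟩
      one_smul := fun K => Subtype.ext (cj_one K.1)
      mul_smul := fun a b K => Subtype.ext (cj_cj (a : G) (b : G) K.1).symm }
  have hsm : ∀ (a : A) (K : P), (a • K).1 = cj (a : G) K.1 := fun a K => rfl
  let W : P → Subgroup G := fun K => ⨆ y : {y : G // y ∈ Y ∧ cj (y * g) F₀ = K.1}, cj ((y : G) * g) U
  have hWdef : ∀ K : P, W K = ⨆ y : {y : G // y ∈ Y ∧ cj (y * g) F₀ = K.1}, cj ((y : G) * g) U := fun _ => rfl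
  have leW : ∀ (K : P) (y : G), y ∈ Y → cj (y * g) F₀ = K.1 → cj (y * g) U ≤ W K := fun K y hy hK =>
    le_iSup (fun y : {y : G // y ∈ Y ∧ cj (y * g) F₀ = K.1} => cj ((y : G) * g) U) ⟨y, hy, hK⟩
  have hrep : ∀ (K : P) (y : G), y ∈ Y → cj (y * g) F₀ = K.1 → y ∉ cj g F₀ := by
    rintro ⟨K, y₀, hy₀, hyn₀, rfl⟩ y hy hK hyg
    apply hyn₀
    have h1 : cj y (cj g F₀) = cj g F₀ := cj_self hyg
    have h2 : cj y (cj g F₀) = cj y₀ (cj g F₀) := by
      rw [cj_cj, cj_cj]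
      exact hK
    exact h.mem_of_cj_eq (p.YF hy₀) p.gF (h2.symm.trans h1)
  have hKK : (⨆ K, W K) = KK U F₀ Y g := by
    apply le_antisymm
    · refine iSup_le fun K => iSup_le fun y => ?_
      exact le_KK y.2.1 (hrep K y y.2.1 y.2.2)
    · refine iSup_le fun y => ?_
      exact (leW ⟨cj ((y : G) * g) F₀, y, y.2.1, y.2.2, rfl⟩ y y.2.1 rfl).trans (le_iSup W _)
  have hWa' : ∀ (a : A) (K : P), cj (a : G) (W K) ≤ W (a • K) := by
    intro a K
    rw [hWdef K, cj_iSup]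
    refine iSup_le fun y => ?_
    rw [cj_cj, ← mul_assoc]
    refine leW (a • K) ((a : G) * y) (mul_mem (p.AY a.2) y.2.1) ?_
    have h1 := y.2.2
    rw [hsm, mul_assoc, ← cj_cj, h1]
  have hWa : ∀ (a : A) (K : P), cj (a : G) (W K) = W (a • K) := by
    intro a K
    refine le_antisymm (hWa' a K) ?_
    have h1 := cj_mono (a : G) (hWa' a⁻¹ (a • K))
    rw [inv_smul_smul] at h1
    have h2 : ((a⁻¹ : A) : G) = (a : G)⁻¹ := rfl
    rwa [h2, cj_cj_inv] at h1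
  have hne : Nonempty P := by
    obtain ⟨y, hy, hyn⟩ := SetLike.not_le_iff_exists.1 p.nY
    exact ⟨⟨_, y, hy, hyn, rfl⟩⟩
  have hfin : Finite P := Subtype.finite
  have hWL : ∀ K, W K ≤ Λ := fun K => iSup_le fun y => One.cjU_le_Lam (p.yF y.2.1)
  have hq : ∀ K, ∀ x ∈ W K, ∀ a ∈ A, ∀ b ∈ A, b * (x * (a * x * a⁻¹)) = x * (a * x * a⁻¹) * b :=
    fun K x hx a ha b hb => p.quad_sup h ha
      (W := fun y : {y : G // y ∈ Y ∧ cj (y * g) F₀ = K.1} => cj ((y : G) * g) U)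
      (fun y => One.cjU_le_Lam (p.yF y.2.1))
      (fun y x hx => p.quad' h y.2.1 (hrep K y y.2.1 y.2.2) hx ha hb) hx
  have hind : ∀ K, ¬ W K ≤ ⨆ K', ⨆ _ : K' ≠ K, W K' := by
    intro K hle
    obtain ⟨y, hy, hyn, hK⟩ := K.2
    apply hno
    have h1 := cj_mono y⁻¹ ((leW K y hy hK.symm).trans hle)
    rw [← cj_cj, cj_inv_cj] at h1
    refine h1.trans ?_
    rw [cj_iSup]
    refine iSup_le fun K' => ?_
    rw [cj_iSup]
    refine iSup_le fun hK' => ?_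
    rw [hWdef, cj_iSup]
    refine iSup_le fun y' => ?_
    rw [cj_cj, ← mul_assoc]
    refine le_KK (mul_mem (inv_mem hy) y'.2.1) fun h2 => hK' (Subtype.ext ?_)
    rw [← y'.2.2, hK]
    have e : (y' : G) * g = y * ((y⁻¹ * y') * g) := by group
    rw [e, ← cj_cj y, ← cj_cj (y⁻¹ * y') g, cj_self h2, cj_cj]
  have hmv : ∀ K : P, ∃ a : A, a • K ≠ K := by
    intro K
    obtain ⟨y, hy, hyn, hK⟩ := K.2
    obtain ⟨a, ha, han⟩ := SetLike.not_le_iff_exists.1 (p.not_fix h hy hyn)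
    refine ⟨⟨a, ha⟩, fun h1 => han ?_⟩
    have h2 := congrArg Subtype.val h1
    rw [hsm, hK] at h2
    exact h.mem_of_cj_eq (p.hA.2.1 ha) (p.yF hy) h2
  -- `O` normalises all `U^{yg}`, so all `W K`
  have hOU : ∀ y ∈ Y, o2 F ≤ normalizer ((cj (y * g) U : Subgroup G) : Set G) := by
    intro y hy
    rw [← cj_normalizer]
    exact (h.O_le_cj (p.yF hy)).trans (cj_mono _ h.TU)
  have hOW : ∀ K, o2 F ≤ normalizer ((W K : Subgroup G) : Set G) := by
    intro K o ho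
    rw [mem_normalizer_iff_cj, hWdef, cj_iSup]
    exact iSup_congr fun y => cj_eq_of_mem_normalizer (hOU y y.2.1 ho)
  obtain ⟨i⟩ := h.ne
  have hl : ∀ K, 4 ≤ (centralizer (A : Set G)).relIndex (W K) := by
    intro K
    by_contra hcon
    push Not at hcon
    obtain ⟨y, hy, hyn, hK⟩ := K.2
    obtain ⟨a, haK⟩ := hmv K
    set C := centralizer (A : Set G) ⊓ W K with hC
    set M := W K ⊓ ⨆ K', ⨆ _ : K' ≠ K, W K' with hM
    have hCW : C ≤ W K := inf_le_right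
    have hMW : M ≤ W K := inf_le_left
    have hCM : C ≤ M := by
      rintro x ⟨hx1, hx2⟩
      refine ⟨hx2, ?_⟩
      have h1 : x ∈ W (a • K) := by
        rw [← hWa]
        have h3 := mem_centralizer_iff.1 hx1 (a : G) a.2
        have : (a : G) * x * (a : G)⁻¹ = x := by rw [h3, mul_inv_cancel_right]
        rw [← this]
        exact conj_mem_cj hx2
      exact (le_iSup₂ (f := fun K' (_ : K' ≠ K) => W K') (a • K) haK) h1
    have hMne : M ≠ W K := fun h1 => hind K (inf_eq_left.1 h1)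
    have hrel : (centralizer (A : Set G)).relIndex (W K) = C.relIndex M * M.relIndex (W K) := by
      rw [relIndex_mul_relIndex C M (W K) hCM hMW, inf_relIndex_right]
    have h0C : C.relIndex M ≠ 0 := relIndex_ne _ _
    have h0M : M.relIndex (W K) ≠ 0 := relIndex_ne _ _
    have h1M : M.relIndex (W K) ≠ 1 := fun h1 => hMne (le_antisymm hMW (relIndex_eq_one.1 h1))
    have hM2 : M.relIndex (W K) = 2 ∧ C.relIndex M = 1 := by
      have : Fact (Nat.Prime 2) := ⟨Nat.prime_two⟩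
      rw [hrel] at hcon
      have h2 : 2 ≤ M.relIndex (W K) := by omega
      have h3 : M.relIndex (W K) ≤ 3 := by
        by_contra h4
        have h5 : 4 ≤ M.relIndex (W K) := by omega
        have h6 : 1 * 4 ≤ C.relIndex M * M.relIndex (W K) := Nat.mul_le_mul (by omega) h5
        omega
      have h4 : C.relIndex M = 1 := by
        by_contra h5
        have h6 : 2 ≤ C.relIndex M := by omega
        have h7 := Nat.mul_le_mul h6 h2
        omega
      refine ⟨?_, h4⟩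
      obtain ⟨n, hn⟩ := (isPGroup_of_elab (elab_mono h.Lam_elab (hWL K))).index (M.subgroupOf (W K))
      change M.relIndex (W K) = 2 ^ n at hn
      match n, hn with
      | 0, hn => exact absurd hn h1M
      | 1, hn => rw [hn]; norm_num
      | n + 2, hn =>
        exfalso
        have : 2 ^ 2 ≤ 2 ^ (n + 2) := Nat.pow_le_pow_right (by norm_num) (by omega)
        omega
    have hMC : M = C := le_antisymm (relIndex_eq_one.1 hM2.2) hCM
    -- `[W, O] ≤ M`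
    have hMn : o2 F ≤ normalizer ((M : Subgroup G) : Set G) := by
      intro o ho
      have e : cj o M = cj o (W K) ⊓ cj o (⨆ K', ⨆ _ : K' ≠ K, W K') := cj_inf _ _ _
      rw [mem_normalizer_iff_cj, e, cj_eq_of_mem_normalizer (hOW K ho), cj_iSup]
      have e2 : (⨆ K', cj o (⨆ _ : K' ≠ K, W K')) = ⨆ K', ⨆ _ : K' ≠ K, W K' := by
        refine iSup_congr fun K' => ?_
        rw [cj_iSup]
        exact iSup_congr fun _ => cj_eq_of_mem_normalizer (hOW K' ho)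
      rw [e2]
    have hcom : ⁅W K, o2 F⁆ ≤ M := by
      rw [commutator_le]
      intro x hx o ho
      by_cases hxM : x ∈ M
      · have h1 := (mem_normalizer_iff.1 (hMn ho) x⁻¹).1 (inv_mem hxM)
        have h2 := mul_mem hxM h1
        have e : x * (o * x⁻¹ * o⁻¹) = ⁅x, o⁆ := by rw [commutatorElement_def]; group
        rwa [e] at h2
      · have hox : o * x * o⁻¹ ∉ M := fun h1 => hxM ((mem_normalizer_iff.1 (hMn ho) x).2 h1)
        have hoxW : o * x * o⁻¹ ∈ W K := (mem_normalizer_iff.1 (hOW K ho) x).1 hx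
        have h3 := (mul_mem_iff_of_index_two hM2.1 (a := ⟨x, hx⟩) (b := ⟨(o * x * o⁻¹)⁻¹, inv_mem hoxW⟩)).2
          ⟨fun h => absurd h hxM, fun h => absurd (by
            have := inv_mem h
            rw [mem_subgroupOf] at this
            simpa using this) hox⟩
        rw [mem_subgroupOf] at h3
        have e : x * (o * x * o⁻¹)⁻¹ = ⁅x, o⁆ := by rw [commutatorElement_def]; group
        rw [← e]
        exact h3
    -- `A` centralises a conjugate of `Z i`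
    refine p.not_fix h hy hyn fun b hb => h.H1' (i := i) (p.yF hy) (p.hA.2.1 hb) fun x hx => ?_
    have h3 := cj_mono (y * g) (h.H3 i) hx
    have h4 : cj (y * g) (⁅U, o2 F⁆ : Subgroup G) = ⁅cj (y * g) U, cj (y * g) (o2 F)⁆ := map_commutator _ _ _
    rw [h4, cj_o2_self (p.yF hy)] at h3
    have h5 : x ∈ M := hcom (commutator_mono (leW K y hy hK.symm) le_rfl h3)
    rw [hMC] at h5
    exact mem_centralizer_iff.1 h5.1 b hb
  have h0 : ∀ a : A, (∀ K : P, a • K = K) → (a : G) ∈ A ⊓ o2 Y := by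
    intro a ha
    refine ⟨a.2, p.ker h a.2 fun y hy => ?_⟩
    by_cases hyn : y ∈ cj g F₀
    · rw [← cj_cj, cj_self hyn]
      exact hAg a.2
    · have h1 := congrArg Subtype.val (ha ⟨cj (y * g) F₀, y, hy, hyn, rfl⟩)
      rw [hsm] at h1
      exact h.mem_of_cj_eq (p.hA.2.1 a.2) (p.yF hy) h1
  have main := count_points' h.comm W hWL hWa hq hind hmv hl h0
  rw [hKK] at main
  have h4 := relIndex_le p.hA (elab_mono h.Lam_elab p.KK_le) (p.KK_le.trans h.Lam_le_F)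
  have h5 : (centralizer (KK U F₀ Y g : Set G)).relIndex A ≤ (A ⊓ o2 Y).relIndex A :=
    relIndex_le_of_le_left hc (relIndex_ne _ _)
  have h7 : 0 < (A ⊓ o2 Y).relIndex A := Nat.pos_of_ne_zero (relIndex_ne _ _)
  omega

end GPan

/-- **STEP 1, general form.** -/
theorem One.exists_one [Finite G] (h : One F T F₀ U l Z) : ∃ c ∈ T, c * c = 1 ∧ (∃ u ∈ U, c * u ≠ u * c) ∧
    ∃ a ∈ F, a ∉ F₀ ∧ ∀ u ∈ U, a * (u * (c * u * c⁻¹)) = u * (c * u * c⁻¹) * a := by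
  classical
  obtain ⟨R, A, Y, Rs, g, p⟩ := h.exists_pan
  have hnc := p.not_cent h
  obtain ⟨y, hy, hyn, c, hc, x₀, hx₀, hcx⟩ : ∃ y ∈ Y, y ∉ cj g F₀ ∧ ∃ c ∈ A ⊓ o2 Y,
      ∃ x ∈ cj (y * g) U, c * x ≠ x * c := by
    by_contra hcon
    push Not at hcon
    apply hnc
    rw [le_centralizer_iff, GPan.KK]
    refine iSup_le fun y x hx => ?_
    exact mem_centralizer_iff.2 fun c hc => hcon y y.2.1 y.2.2 c hc x hx
  set k := y * g with hk
  have hkF : k ∈ F := p.yF hy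
  have hcT : k⁻¹ * c * k ∈ T := by
    rw [← mem_cj]
    exact p.o2_le_cj hy hc.2
  obtain ⟨a, ha, han⟩ := SetLike.not_le_iff_exists.1 (p.not_fix h hy hyn)
  have hconj : ∀ x : G, k⁻¹ * c * k * x * (k⁻¹ * c * k)⁻¹ = k⁻¹ * (c * (k * x * k⁻¹) * c⁻¹) * k := by
    intro x; group
  refine ⟨k⁻¹ * c * k, hcT, ?_, ⟨k⁻¹ * x₀ * k, mem_cj.1 hx₀, fun h1 => hcx ?_⟩, k⁻¹ * a * k,
    mul_mem (mul_mem (inv_mem hkF) (p.hA.2.1 ha)) hkF, fun h1 => han (mem_cj.2 h1), ?_⟩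
  · have h1 := elab_sq p.hA.1 c hc.1
    calc k⁻¹ * c * k * (k⁻¹ * c * k) = k⁻¹ * (c * c) * k := by group
      _ = 1 := by rw [h1]; group
  · have e1 : k⁻¹ * c * k * (k⁻¹ * x₀ * k) = k⁻¹ * (c * x₀) * k := by group
    have e2 : k⁻¹ * x₀ * k * (k⁻¹ * c * k) = k⁻¹ * (x₀ * c) * k := by group
    rw [e1, e2] at h1
    exact mul_left_cancel (mul_right_cancel h1)
  · intro x hx
    have h1 := p.quad' h hy hyn (conj_mem_cj (g := k) hx) hc.1 ha
    rw [hconj]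
    have h2 := congrArg (fun t => k⁻¹ * t * k) h1
    have e1 : k⁻¹ * (a * (k * x * k⁻¹ * (c * (k * x * k⁻¹) * c⁻¹))) * k =
        k⁻¹ * a * k * (x * (k⁻¹ * (c * (k * x * k⁻¹) * c⁻¹) * k)) := by group
    have e2 : k⁻¹ * (k * x * k⁻¹ * (c * (k * x * k⁻¹) * c⁻¹) * a) * k =
        x * (k⁻¹ * (c * (k * x * k⁻¹) * c⁻¹) * k) * (k⁻¹ * a * k) := by group
    rw [e1, e2] at h2
    exact h2

end Cfsg.Agent.Omega.OM.Swap

end

section


/-!
# THEOREM SW over a family, STEP 1 in the general form of helper87 (any q)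

`One F T F₀ 𝓐 U l Z`: `T` Sylow in `F`, `F₀` the unique maximal subgroup over `T`, `U = ⟨l i⟩ ≤ O = O₂(F)` normalised by
`T`, `⟨U^F⟩` elementary abelian; `𝓐` a family of best offenders on `⟨U^F⟩`; (H1) `C_F(Z i) ≤ F₀`; (H2) a member of `𝓐` in `T`
centralises `l i` or `Z i ≤ [l i, A]`; (H3) `Z i ≤ [U, O]`; (H4) `N_F(U) ≤ F₀`.

`One.exists_one` : there are `c ∈ T` which moves `U`, `c²` centralises `U`, and `a ∈ F - F₀` which centralises `[U, c]`.
-/

set_option autoImplicit false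

namespace Cfsg.Agent.Omega.OM.Swap.Fam

open Subgroup Cfsg Cfsg.Agent.ZN Cfsg.Agent.ZN.ChoiceBase Cfsg.Agent.ZN.ChoiceSit
  Cfsg.Agent.MinSimple.VModule Cfsg.Agent.Omega.OmThm
open Cfsg.Agent.Omega.OM.Swap hiding Two One Mx
open Cfsg.Agent.MinSimple.MinParabolic (IsMinPar)
open Cfsg.Agent.Omega.FFThm (ElemM)
open scoped Pointwise commutatorElement

universe u

/-- The general situation of STEP 1. -/
structure One {G : Type u} [Group G] {ι : Type*} (F T F₀ : Subgroup G) (𝓐 : Set (Subgroup G)) (U : Subgroup G)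
    (l Z : ι → Subgroup G) : Prop where
  syl : Syl T F
  TF₀ : T ≤ F₀
  F₀F : F₀ < F
  max : ∀ K : Subgroup G, T ≤ K → K < F → K ≤ F₀
  fam : Fm F (NoFF.Basic.V U F) 𝓐
  nJ : ∃ A ∈ 𝓐, A ≤ T ∧ ¬ A ≤ o2 F
  ne : Nonempty ι
  UO : U ≤ o2 F
  TU : T ≤ normalizer (U : Set G)
  comm : ∀ x ∈ NoFF.Basic.V U F, ∀ y ∈ NoFF.Basic.V U F, x * y = y * x
  sq : ∀ x ∈ NoFF.Basic.V U F, x * x = 1
  sup : U = ⨆ i, l i
  H1 : ∀ i, ∀ f ∈ F, (∀ x ∈ Z i, f * x = x * f) → f ∈ F₀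
  H2 : ∀ A ∈ 𝓐, A ≤ T → ∀ i, (∀ a ∈ A, ∀ x ∈ l i, a * x = x * a) ∨
    Z i ≤ closure {y | ∃ x ∈ l i, ∃ a ∈ A, y = x * (a * x * a⁻¹)}
  H3 : ∀ i, Z i ≤ ⁅U, o2 F⁆
  H4 : F ⊓ normalizer (U : Set G) ≤ F₀

variable {G : Type u} [Group G] {ι : Type*} {F T F₀ U : Subgroup G} {𝓐 : Set (Subgroup G)} {l Z : ι → Subgroup G}

/-- The group generated by the members of `𝓐` in `X`. -/
def JA (𝓐 : Set (Subgroup G)) (X : Subgroup G) : Subgroup G := sSup {A | A ∈ 𝓐 ∧ A ≤ X}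

theorem JA_le (X : Subgroup G) : JA 𝓐 X ≤ X := sSup_le fun _ hA => hA.2

theorem le_JA {X A : Subgroup G} (hA : A ∈ 𝓐) (h : A ≤ X) : A ≤ JA 𝓐 X := le_sSup ⟨hA, h⟩

theorem JA_mono {X Y : Subgroup G} (h : X ≤ Y) : JA 𝓐 X ≤ JA 𝓐 Y :=
  sSup_le fun _ hA => le_JA hA.1 (hA.2.trans h)

theorem JA_JA (X : Subgroup G) : JA 𝓐 (JA 𝓐 X) = JA 𝓐 X :=
  le_antisymm (JA_le _) (sSup_le fun _ hA => le_JA hA.1 (le_JA hA.1 hA.2))

/-- `R` is a maximal intersection. -/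
structure MxA (F T F₀ : Subgroup G) (𝓐 : Set (Subgroup G)) (R : Subgroup G) : Prop where
  RF : R ≤ F
  R2 : IsPGroup 2 R
  On : o2 F ≤ normalizer (R : Set G)
  gen : JA 𝓐 R = R
  one : ∀ A ∈ 𝓐, A ≤ normalizer (R : Set G) → ¬ A ≤ R → ∀ g ∈ F, ∀ g' ∈ F, R ⊔ A ≤ cj g T → R ⊔ A ≤ cj g' T →
    g⁻¹ * g' ∈ F₀
  ex : ∃ A ∈ 𝓐, ∃ A' ∈ 𝓐, A ≤ normalizer (R : Set G) ∧ ¬ A ≤ R ∧ A' ≤ normalizer (R : Set G) ∧ ¬ A' ≤ R ∧
    ∃ g ∈ F, ∃ g' ∈ F, R ⊔ A ≤ cj g T ∧ R ⊔ A' ≤ cj g' T ∧ g⁻¹ * g' ∉ F₀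

namespace One

local notation "Λ" => NoFF.Basic.V U F

variable (h : One F T F₀ 𝓐 U l Z)
include h

theorem T2 : IsPGroup 2 T := h.syl.2.1

theorem TF : T ≤ F := h.syl.1

theorem OT [Finite G] : o2 F ≤ T := o2_le_syl h.syl

theorem l_le (i : ι) : l i ≤ U := by rw [h.sup]; exact le_iSup l i

theorem Lam_elab : IsElementaryAbelian 2 (Λ) := elab_of h.comm h.sq

omit h in
theorem cjU_le_Lam {g : G} (hg : g ∈ F) : cj g U ≤ Λ := NoFF.Basic.Z_le_V hg

theorem Lam_le_O : Λ ≤ o2 F := NoFF.Basic.V_le fun p hp => by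
  have h1 : cj p U ≤ cj p (o2 F) := cj_mono p h.UO
  rw [cj_o2_self hp] at h1
  exact h1

theorem Lam_le_F : Λ ≤ F := h.Lam_le_O.trans (ChoiceSit.o2_le F)

omit h in
theorem F_nor : F ≤ normalizer ((Λ : Subgroup G) : Set G) := XD.X_le_normalizer_W

omit h in
theorem conj_Lam {f x : G} (hf : f ∈ F) (hx : x ∈ Λ) : f * x * f⁻¹ ∈ Λ :=
  (mem_normalizer_iff.1 (F_nor hf) x).1 hx

/-- (H1) conjugated -/
theorem H1' {g a : G} (hg : g ∈ F) (ha : a ∈ F) {i : ι} (hax : ∀ x ∈ cj g (Z i), a * x = x * a) : a ∈ cj g F₀ := by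
  rw [mem_cj]
  refine h.H1 i _ (mul_mem (mul_mem (inv_mem hg) ha) hg) fun x hx => ?_
  have h1 := hax _ (conj_mem_cj (g := g) hx)
  have h2 := congrArg (fun t => g⁻¹ * t * g) h1
  have e1 : g⁻¹ * (a * (g * x * g⁻¹)) * g = g⁻¹ * a * g * x := by group
  have e2 : g⁻¹ * (g * x * g⁻¹ * a) * g = x * (g⁻¹ * a * g) := by group
  rw [← e1, ← e2]
  exact h2

theorem F₀_le : F₀ ≤ F := h.F₀F.le

theorem cj_JA {g : G} (hg : g ∈ F) (X : Subgroup G) : cj g (JA 𝓐 X) = JA 𝓐 (cj g X) := by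
  have key : ∀ g ∈ F, ∀ X : Subgroup G, cj g (JA 𝓐 X) ≤ JA 𝓐 (cj g X) := by
    intro g hg X
    rw [cj_le_iff]
    refine sSup_le fun A hA => ?_
    rw [← cj_cj_inv g⁻¹ A, inv_inv]
    exact cj_mono g⁻¹ (le_JA (h.fam.conj g hg A hA.1) (cj_mono g hA.2))
  refine le_antisymm (key g hg X) ?_
  have h1 := cj_mono g (key g⁻¹ (inv_mem hg) (cj g X))
  rwa [cj_cj_inv, cj_inv_cj] at h1

theorem T_not_normal [Finite G] : ¬ F ≤ normalizer (T : Set G) := by
  intro h1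
  obtain ⟨A, hA, hAT, hAO⟩ := h.nJ
  exact hAO (hAT.trans (ChoiceSit.le_o2 h.T2 h.TF h1))

theorem NT [Finite G] : F ⊓ normalizer (T : Set G) ≤ F₀ :=
  h.max _ (le_inf h.TF le_normalizer) (lt_of_le_of_ne inf_le_left fun h1 =>
    h.T_not_normal (inf_eq_left.1 h1))

theorem syl_F₀ : Syl T F₀ := ⟨h.TF₀, h.T2, fun Q hQ hQ2 hTQ => h.syl.2.2 Q (hQ.trans h.F₀_le) hQ2 hTQ⟩

theorem pt_of_eq [Finite G] {g g' : G} (hg : g ∈ F) (hg' : g' ∈ F) (he : cj g T = cj g' T) : g⁻¹ * g' ∈ F₀ := by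
  refine h.NT (mem_inf.2 ⟨mul_mem (inv_mem hg) hg', ?_⟩)
  rw [mem_normalizer_iff_cj, ← cj_cj, ← he, cj_inv_cj]

theorem exists_cj [Finite G] {Q : Subgroup G} (hQ : IsPGroup 2 Q) (hQF : Q ≤ F) : ∃ g ∈ F, Q ≤ cj g T := by
  obtain ⟨S, hS, hQS⟩ := exists_syl hQ hQF
  obtain ⟨x, hx, hxS⟩ := syl_conj h.syl hS
  exact ⟨x, hx, hxS ▸ hQS⟩

theorem exists_cj_pt [Finite G] {Q : Subgroup G} (hQ : IsPGroup 2 Q) {g : G} (hg : g ∈ F) (hQF : Q ≤ cj g F₀) :
    ∃ g' ∈ F, g⁻¹ * g' ∈ F₀ ∧ Q ≤ cj g' T := by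
  have h1 : cj g⁻¹ Q ≤ F₀ := by rw [cj_le_iff, inv_inv]; exact hQF
  obtain ⟨S, hS, hQS⟩ := exists_syl (isPGroup_cj g⁻¹ hQ) h1
  obtain ⟨x, hx, hxS⟩ := syl_conj h.syl_F₀ hS
  refine ⟨g * x, mul_mem hg (h.F₀_le hx), by rwa [inv_mul_cancel_left], ?_⟩
  rw [← cj_cj, hxS]
  have := cj_mono g hQS
  rwa [cj_cj_inv] at this

theorem le_cj_of {K : Subgroup G} {g : G} (hg : g ∈ F) (hT : cj g T ≤ K) (hK : K < F) : K ≤ cj g F₀ := by
  have h1 : cj g⁻¹ K ≤ F₀ := by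
    refine h.max _ ?_ ?_
    · rw [← cj_inv_cj g T]
      exact cj_mono g⁻¹ hT
    · have h2 : cj g⁻¹ K ≤ F := by
        have := cj_mono g⁻¹ hK.le
        rwa [cj_self (inv_mem hg)] at this
      refine lt_of_le_of_ne h2 fun h3 => hK.ne ?_
      have := congrArg (cj g) h3
      rwa [cj_cj_inv, cj_self hg] at this
  rw [← cj_cj_inv g K]
  exact cj_mono g h1

theorem cj_T_le {g : G} : cj g T ≤ cj g F₀ := cj_mono g h.TF₀

theorem O_le_cj [Finite G] {g : G} (hg : g ∈ F) : o2 F ≤ cj g T := by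
  have := cj_mono g h.OT
  rwa [cj_o2_self hg] at this

theorem pt_of_le [Finite G] {g g' : G} (hg : g ∈ F) (hg' : g' ∈ F) (hle : cj g' T ≤ cj g F₀) : g⁻¹ * g' ∈ F₀ := by
  obtain ⟨k, hk, hk1, hk2⟩ := h.exists_cj_pt (isPGroup_cj g' h.T2) hg hle
  have h1 : cj g' T = cj k T := eq_of_le_of_card_ge hk2 (by rw [card_cj, card_cj])
  have h2 := h.pt_of_eq hk hg' h1.symm
  have h3 := mul_mem hk1 h2
  have e : g⁻¹ * k * (k⁻¹ * g') = g⁻¹ * g' := by group
  rwa [e] at h3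

theorem mem_of_cj_eq [Finite G] {a k : G} (ha : a ∈ F) (hk : k ∈ F) (he : cj a (cj k F₀) = cj k F₀) :
    a ∈ cj k F₀ := by
  rw [mem_cj]
  have hx : k⁻¹ * a * k ∈ F := mul_mem (mul_mem (inv_mem hk) ha) hk
  have h1 : cj (k⁻¹ * a * k) F₀ = F₀ := by
    rw [← cj_cj, ← cj_cj, he, cj_inv_cj]
  have h2 := h.pt_of_le (one_mem F) hx (by rw [cj_one, ← h1]; exact cj_mono _ h.TF₀)
  rwa [inv_one, one_mul] at h2

/-! ### `R` -/

theorem grow [Finite G] {R : Subgroup G} (hR : JA 𝓐 R = R) {g : G} (hg : g ∈ F) (hRg : R ≤ cj g T)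
    (hno : ∀ A ∈ 𝓐, A ≤ cj g T → A ≤ normalizer (R : Set G) → A ≤ R) : JA 𝓐 (cj g T) = R := by
  set P := cj g T with hP
  have hPF : P ≤ F := by
    have := cj_mono g h.TF
    rwa [cj_self hg] at this
  set K := P ⊓ normalizer (R : Set G) with hK
  have hRK : R ≤ K := le_inf hRg le_normalizer
  have hJK : JA 𝓐 K = R :=
    le_antisymm (sSup_le fun A hA => hno A hA.1 (hA.2.trans inf_le_left) (hA.2.trans inf_le_right))
      (hR.symm.le.trans (JA_mono hRK))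
  have h1 : K = P := by
    apply ZN.ChoiceNse.eq_of_normalizer_inf_le (isPGroup_cj g h.T2) inf_le_left
    rintro x ⟨hx1, hx2⟩
    refine mem_inf.2 ⟨hx2, ?_⟩
    rw [mem_normalizer_iff_cj, ← hJK, h.cj_JA (hPF hx2), cj_eq_of_mem_normalizer hx1]
  rw [← h1, hJK]

theorem exists_mx [Finite G] : ∃ R, MxA F T F₀ 𝓐 R := by
  classical
  obtain ⟨g₀, hg₀, hg₀'⟩ := SetLike.exists_of_lt h.F₀F
  obtain ⟨⟨g₁, g₂⟩, ⟨hg₁, hg₂, hne⟩, hmax⟩ := Set.exists_max_image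
    {p : G × G | p.1 ∈ F ∧ p.2 ∈ F ∧ p.1⁻¹ * p.2 ∉ F₀} (fun p => Nat.card (JA 𝓐 (cj p.1 T ⊓ cj p.2 T)))
    (Set.toFinite _) ⟨(1, g₀), one_mem _, hg₀, by simpa using hg₀'⟩
  simp only at hg₁ hg₂ hne hmax
  set R := JA 𝓐 (cj g₁ T ⊓ cj g₂ T) with hRdef
  have hR1 : R ≤ cj g₁ T := (JA_le _).trans inf_le_left
  have hR2 : R ≤ cj g₂ T := (JA_le _).trans inf_le_right
  have hgen : JA 𝓐 R = R := JA_JA _
  have hRF : R ≤ F := sSup_le fun A hA => h.fam.le A hA.1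
  have hO : o2 F ≤ normalizer (R : Set G) := by
    intro o ho
    have hoF := ChoiceSit.o2_le F ho
    rw [mem_normalizer_iff_cj, hRdef, h.cj_JA hoF, cj_inf, cj_self (h.O_le_cj hg₁ ho), cj_self (h.O_le_cj hg₂ ho)]
  have hex : ∀ g g' : G, g ∈ F → g' ∈ F → R ≤ cj g T → R ≤ cj g' T → g⁻¹ * g' ∉ F₀ →
      ∃ A ∈ 𝓐, A ≤ cj g T ∧ A ≤ normalizer (R : Set G) ∧ ¬ A ≤ R := by
    intro g g' hg hg' hRg hRg' hgg'
    by_contra hcon
    push Not at hcon
    have h1 := h.grow hgen hg hRg fun A hA hA1 hA2 => hcon A hA hA1 hA2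
    have h2 : JA 𝓐 (cj g' T) = R := by
      have h3 : R ≤ JA 𝓐 (cj g' T) := hgen.symm.le.trans (JA_mono hRg')
      refine (eq_of_le_of_card_ge h3 ?_).symm
      have h4 : cj (g' * g⁻¹) (JA 𝓐 (cj g T)) = JA 𝓐 (cj g' T) := by
        rw [h.cj_JA (mul_mem hg' (inv_mem hg)), cj_cj, inv_mul_cancel_right]
      rw [← h4, card_cj, h1]
    have hn : ∀ g ∈ F, JA 𝓐 (cj g T) = R → cj g T ≤ normalizer (R : Set G) := by
      intro g hg he x hx
      have hxF : x ∈ F := by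
        have := cj_mono g h.TF hx
        rwa [cj_self hg] at this
      rw [mem_normalizer_iff_cj, ← he, h.cj_JA hxF, cj_self hx]
    have hFn : ∀ g ∈ F, cj g T ≤ F := by
      intro g hg
      have := cj_mono g h.TF
      rwa [cj_self hg] at this
    have n1 := hn g hg h1
    have n2 := hn g' hg' h2
    by_cases hF : F ≤ normalizer (R : Set G)
    · have h3 : R ≤ o2 F := ChoiceSit.le_o2 ((isPGroup_cj g h.T2).to_le hRg) hRF hF
      obtain ⟨A, hA, hAT, hAO⟩ := h.nJ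
      apply hAO
      have h4 : cj g A ≤ o2 F := (le_JA (h.fam.conj g hg A hA) (cj_mono g hAT)).trans (h1.le.trans h3)
      rw [cj_le_iff, cj_o2_self (inv_mem hg)] at h4
      exact h4
    · have hlt : F ⊓ normalizer (R : Set G) < F := lt_of_le_of_ne inf_le_left fun h4 => hF (inf_eq_left.1 h4)
      have h3 := h.le_cj_of hg (le_inf (hFn g hg) n1) hlt
      exact hgg' (h.pt_of_le hg hg' ((le_inf (hFn g' hg') n2).trans h3))
  refine ⟨R, hRF, (isPGroup_cj g₁ h.T2).to_le hR1, hO, hgen, ?_, ?_⟩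
  · intro A hA hAN hAR g hg g' hg' h1 h2
    by_contra hcon
    have h3 := hmax (g, g') ⟨hg, hg', hcon⟩
    simp only at h3
    have h4 : R ≤ JA 𝓐 (cj g T ⊓ cj g' T) := hgen.symm.le.trans (JA_mono (le_inf (le_sup_left.trans h1) (le_sup_left.trans h2)))
    have h5 : R = JA 𝓐 (cj g T ⊓ cj g' T) := eq_of_le_of_card_ge h4 h3
    apply hAR
    rw [h5]
    exact le_JA hA (le_inf (le_sup_right.trans h1) (le_sup_right.trans h2))
  · obtain ⟨A, hA, hA1, hA2, hA3⟩ := hex g₁ g₂ hg₁ hg₂ hR1 hR2 hne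
    obtain ⟨A', hA', hA1', hA2', hA3'⟩ := hex g₂ g₁ hg₂ hg₁ hR2 hR1 fun h1 => hne (by
      have := inv_mem h1
      rwa [mul_inv_rev, inv_inv] at this)
    exact ⟨A, hA, A', hA', hA2, hA3, hA2', hA3', g₁, hg₁, g₂, hg₂, sup_le hR1 hA1, sup_le hR2 hA1', hne⟩

end One

/-- The panel. -/
structure GPan (F T F₀ : Subgroup G) (𝓐 : Set (Subgroup G)) (U R A Y Rs : Subgroup G) (g : G) : Prop where
  mx : MxA F T F₀ 𝓐 R
  hA : A ∈ 𝓐
  AN : A ≤ normalizer (R : Set G)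
  AR : ¬ A ≤ R
  Amax : ∀ B ∈ 𝓐, B ≤ normalizer (R : Set G) → ¬ B ≤ R →
    Nat.card ↥(NoFF.Basic.V U F ⊓ centralizer (B : Set G)) ≤ Nat.card ↥(NoFF.Basic.V U F ⊓ centralizer (A : Set G))
  gF : g ∈ F
  YF : Y ≤ F
  YN : Y ≤ normalizer (R : Set G)
  syl : Syl Rs Y
  ORs : o2 F ≤ Rs
  RRs : R ≤ Rs
  ARs : A ≤ Rs
  RsT : Rs ≤ cj g T
  max : ∀ K : Subgroup G, o2 F ⊔ R ⊔ A ≤ K → K < Y → K ≤ cj g F₀
  nY : ¬ Y ≤ cj g F₀

theorem One.exists_pan [Finite G] (h : One F T F₀ 𝓐 U l Z) : ∃ R A Y Rs g, GPan F T F₀ 𝓐 U R A Y Rs g := by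
  classical
  obtain ⟨R, hR⟩ := h.exists_mx
  obtain ⟨A₁, hA₁, A₂, hA₂, hN₁, hR₁, hN₂, hR₂, g₁, hg₁, g₂, hg₂, hT₁, hT₂, hne⟩ := hR.ex
  obtain ⟨A, ⟨hA, hAN, hAR⟩, hmax⟩ := Set.exists_max_image
    {A : Subgroup G | A ∈ 𝓐 ∧ A ≤ normalizer (R : Set G) ∧ ¬ A ≤ R} (fun A => Nat.card ↥(NoFF.Basic.V U F ⊓ centralizer (A : Set G)))
    (Set.toFinite _) ⟨A₁, hA₁, hN₁, hR₁⟩
  have two : ∀ B ∈ 𝓐, B ≤ normalizer (R : Set G) → IsPGroup 2 (o2 F ⊔ R ⊔ B : Subgroup G) := by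
    intro B hB hBN
    have : Fact (Nat.Prime 2) := ⟨Nat.prime_two⟩
    have h1 : IsPGroup 2 (o2 F ⊔ R : Subgroup G) :=
      IsPGroup.to_sup_of_normal_right' (ChoiceSit.isPGroup_o2 F) hR.R2 hR.On
    refine IsPGroup.to_sup_of_normal_left' h1 (h.fam.two B hB) ?_
    intro b hb
    rw [mem_normalizer_iff_cj]
    have e : cj b (o2 F ⊔ R) = cj b (o2 F) ⊔ cj b R := Subgroup.map_sup _ _ _
    rw [e, cj_o2_self (h.fam.le B hB hb), cj_eq_of_mem_normalizer (hBN hb)]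
  have leF : ∀ B ∈ 𝓐, o2 F ⊔ R ⊔ B ≤ F := fun B hB => sup_le (sup_le (ChoiceSit.o2_le F) hR.RF) (h.fam.le B hB)
  obtain ⟨gA, hgA, hTA⟩ := h.exists_cj (two A hA hAN) (leF A hA)
  have hRA : R ⊔ A ≤ cj gA T := (sup_le_sup_right le_sup_right A).trans hTA
  have ex : ∃ B ∈ 𝓐, B ≤ normalizer (R : Set G) ∧ ¬ B ≤ R ∧ ∃ g ∈ F, R ⊔ B ≤ cj g T ∧ gA⁻¹ * g ∉ F₀ := by
    by_cases h1 : gA⁻¹ * g₁ ∈ F₀
    · refine ⟨A₂, hA₂, hN₂, hR₂, g₂, hg₂, hT₂, fun h2 => hne ?_⟩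
      have h3 := mul_mem (inv_mem h1) h2
      have e : (gA⁻¹ * g₁)⁻¹ * (gA⁻¹ * g₂) = g₁⁻¹ * g₂ := by group
      rwa [e] at h3
    · exact ⟨A₁, hA₁, hN₁, hR₁, g₁, hg₁, hT₁, h1⟩
  obtain ⟨A', ⟨hA', hAN', hAR', g', hg', hT', hne'⟩, hmin⟩ := Set.exists_min_image
    {B : Subgroup G | B ∈ 𝓐 ∧ B ≤ normalizer (R : Set G) ∧ ¬ B ≤ R ∧ ∃ g ∈ F, R ⊔ B ≤ cj g T ∧ gA⁻¹ * g ∉ F₀}
    (fun B => Nat.card ↥(o2 F ⊔ R ⊔ A ⊔ B)) (Set.toFinite _) ex
  set Y := o2 F ⊔ R ⊔ A ⊔ A' with hY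
  have hYF : Y ≤ F := sup_le (leF A hA) (h.fam.le A' hA')
  have hYN : Y ≤ normalizer (R : Set G) := sup_le (sup_le (sup_le hR.On le_normalizer) hAN) hAN'
  have hQY : o2 F ⊔ R ⊔ A ≤ Y := le_sup_left
  have hYn : ¬ Y ≤ cj gA F₀ := by
    intro h1
    have h2 : R ⊔ A' ≤ cj gA F₀ := (sup_le (le_sup_right.trans (le_sup_left.trans le_sup_left)) le_sup_right).trans h1
    have h3 : IsPGroup 2 (R ⊔ A' : Subgroup G) := (two A' hA' hAN').to_le (sup_le_sup_right le_sup_right A')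
    obtain ⟨k, hk, hk1, hk2⟩ := h.exists_cj_pt h3 hgA h2
    have h4 := hR.one A' hA' hAN' hAR' k hk g' hg' hk2 hT'
    have h5 := mul_mem hk1 h4
    have e : gA⁻¹ * k * (k⁻¹ * g') = gA⁻¹ * g' := by group
    rw [e] at h5
    exact hne' h5
  have hKmax : ∀ K : Subgroup G, o2 F ⊔ R ⊔ A ≤ K → K < Y → K ≤ cj gA F₀ := by
    intro K hQK hKY
    by_contra hcon
    obtain ⟨k, hkK, hk⟩ := SetLike.not_le_iff_exists.1 hcon
    have hkY : k ∈ Y := hKY.le hkK
    have hkF : k ∈ F := hYF hkY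
    have hkR : cj k R = R := cj_eq_of_mem_normalizer (hYN hkY)
    have h1 : cj k A ∈ 𝓐 := h.fam.conj k hkF A hA
    have h2 : cj k A ≤ K := by
      have := cj_mono k (le_sup_right.trans hQK : A ≤ K)
      rwa [cj_self hkK] at this
    have h3 : ¬ cj k A ≤ R := by
      intro h4
      apply hAR
      rw [← hkR] at h4
      have := cj_mono k⁻¹ h4
      rwa [cj_inv_cj, cj_inv_cj] at this
    have h4 : R ⊔ cj k A ≤ cj (k * gA) T := by
      rw [← hkR, ← cj_cj]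
      refine sup_le ?_ ?_
      · rw [hkR, ← hkR]
        exact cj_mono k (le_sup_left.trans hRA)
      · exact cj_mono k (le_sup_right.trans hRA)
    have h5 : gA⁻¹ * (k * gA) ∉ F₀ := by
      intro h6
      apply hk
      rw [mem_cj]
      rwa [← mul_assoc] at h6
    have h6 := hmin (cj k A) ⟨h1, h2.trans (hKY.le.trans hYN), h3, k * gA, mul_mem hkF hgA, h4, h5⟩
    have h7 : o2 F ⊔ R ⊔ A ⊔ cj k A ≤ K := sup_le hQK h2
    have h8 : Nat.card Y ≤ Nat.card K := h6.trans (Subgroup.card_le_of_le h7)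
    exact hKY.ne (eq_of_le_of_card_ge hKY.le h8)
  obtain ⟨Rs, hRs, hQRs⟩ := exists_syl (two A hA hAN) hQY
  obtain ⟨g, hg, hRsg⟩ := h.exists_cj hRs.2.1 (hRs.1.trans hYF)
  have hpt : gA⁻¹ * g ∈ F₀ := hR.one A hA hAN hAR gA hgA g hg hRA
    (((sup_le_sup_right le_sup_right A).trans hQRs).trans hRsg)
  have hFe : cj g F₀ = cj gA F₀ := by
    have : g = gA * (gA⁻¹ * g) := by group
    rw [this, ← cj_cj, cj_self hpt]
  refine ⟨R, A, Y, Rs, g, hR, hA, hAN, hAR, fun B hB h1 h2 => hmax B ⟨hB, h1, h2⟩, hg, hYF, hYN, hRs,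
    (le_sup_left.trans le_sup_left).trans hQRs, (le_sup_right.trans le_sup_left).trans hQRs,
    le_sup_right.trans hQRs, hRsg, ?_, ?_⟩
  · rw [hFe]
    exact hKmax
  · rw [hFe]
    exact hYn

namespace GPan

local notation "Λ" => NoFF.Basic.V U F

variable {R A Y Rs : Subgroup G} {g : G} (p : GPan F T F₀ 𝓐 U R A Y Rs g)
include p

theorem RsY : Rs ≤ Y := p.syl.1

theorem Rs2 : IsPGroup 2 Rs := p.syl.2.1

theorem AY : A ≤ Y := p.ARs.trans p.RsY

theorem RY : R ≤ Y := p.RRs.trans p.RsY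

theorem OY : o2 F ≤ Y := p.ORs.trans p.RsY

theorem R_le_o2 [Finite G] : R ≤ o2 Y := ChoiceSit.le_o2 p.mx.R2 p.RY p.YN

theorem O_le_o2 [Finite G] : o2 F ≤ o2 Y :=
  ChoiceSit.le_o2 (ChoiceSit.isPGroup_o2 F) p.OY (p.YF.trans (ChoiceSit.le_normalizer_o2 F))

theorem o2_le_Rs [Finite G] : o2 Y ≤ Rs := o2_le_syl p.syl

theorem o2_le_cj [Finite G] {y : G} (hy : y ∈ Y) : o2 Y ≤ cj (y * g) T := by
  have h1 := cj_mono y (p.o2_le_Rs.trans p.RsT)
  rwa [cj_o2_self hy, cj_cj] at h1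

theorem yF {y : G} (hy : y ∈ Y) : y * g ∈ F := mul_mem (p.YF hy) p.gF

theorem RsF₀ (h : One F T F₀ 𝓐 U l Z) : Rs ≤ cj g F₀ := p.RsT.trans h.cj_T_le

theorem not_normal [Finite G] : ¬ Y ≤ normalizer (Rs : Set G) := by
  intro h1
  have h3 : Rs ≤ o2 Y := ChoiceSit.le_o2 p.Rs2 p.RsY h1
  obtain ⟨y, hy, hyn⟩ := SetLike.not_le_iff_exists.1 p.nY
  have h4 : R ⊔ A ≤ cj (y * g) T := (sup_le p.RRs p.ARs).trans (h3.trans (p.o2_le_cj hy))
  have h5 := p.mx.one A p.hA p.AN p.AR g p.gF _ (p.yF hy) ((sup_le p.RRs p.ARs).trans p.RsT) h4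
  apply hyn
  rw [mem_cj]
  rwa [← mul_assoc] at h5

theorem max' {K : Subgroup G} (hK : Rs ≤ K) (hKY : K < Y) : K ≤ cj g F₀ :=
  p.max K (sup_le (sup_le (p.ORs.trans hK) (p.RRs.trans hK)) (p.ARs.trans hK)) hKY

theorem lt : Y ⊓ cj g F₀ < Y :=
  lt_of_le_of_ne inf_le_left fun h1 => p.nY (inf_eq_left.1 h1)

theorem par [Finite G] : IsMinPar Rs Y :=
  ⟨p.RsY, p.not_normal, Y ⊓ cj g F₀, p.lt, fun _ hK hKY => le_inf hKY.le (p.max' hK hKY)⟩

theorem not_fix [Finite G] (h : One F T F₀ 𝓐 U l Z) {y : G} (hy : y ∈ Y) (hyn : y ∉ cj g F₀) :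
    ¬ A ≤ cj (y * g) F₀ := by
  intro h1
  have h2 : R ⊔ A ≤ cj (y * g) F₀ := sup_le ((p.R_le_o2.trans (p.o2_le_cj hy)).trans h.cj_T_le) h1
  have h3 : IsPGroup 2 (R ⊔ A : Subgroup G) := p.Rs2.to_le (sup_le p.RRs p.ARs)
  obtain ⟨k, hk, hk1, hk2⟩ := h.exists_cj_pt h3 (p.yF hy) h2
  have h4 := p.mx.one A p.hA p.AN p.AR g p.gF k hk ((sup_le p.RRs p.ARs).trans p.RsT) hk2
  apply hyn
  have h5 := mul_mem h4 (inv_mem hk1)
  have e : g⁻¹ * k * ((y * g)⁻¹ * k)⁻¹ = g⁻¹ * y * g := by group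
  rw [e] at h5
  rwa [mem_cj]

theorem ker [Finite G] (h : One F T F₀ 𝓐 U l Z) {a : G} (ha : a ∈ A) (hfix : ∀ y ∈ Y, a ∈ cj (y * g) F₀) : a ∈ o2 Y := by
  have : Fact (Nat.Prime 2) := ⟨Nat.prime_two⟩
  set N : Subgroup G := Y ⊓ ⨅ y : Y, cj ((y : G) * g) F₀ with hN
  have hmemN : ∀ x, x ∈ N ↔ x ∈ Y ∧ ∀ y ∈ Y, x ∈ cj (y * g) F₀ := by
    intro x
    rw [hN, mem_inf, mem_iInf]
    exact ⟨fun h => ⟨h.1, fun y hy => h.2 ⟨y, hy⟩⟩, fun h => ⟨h.1, fun y => h.2 y y.2⟩⟩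
  have hYn : Y ≤ normalizer (N : Set G) := by
    intro x hx
    refine mem_normalizer_of_cj_le fun w hw => ?_
    rw [mem_cj, hmemN] at hw
    rw [hmemN]
    constructor
    · have := mul_mem (mul_mem hx hw.1) (inv_mem hx)
      have e : x * (x⁻¹ * w * x) * x⁻¹ = w := by group
      rwa [e] at this
    · intro y hy
      have h1 := hw.2 (x⁻¹ * y) (mul_mem (inv_mem hx) hy)
      rw [mem_cj] at h1 ⊢
      have e : (x⁻¹ * y * g)⁻¹ * (x⁻¹ * w * x) * (x⁻¹ * y * g) = (y * g)⁻¹ * w * (y * g) := by group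
      rwa [e] at h1
  rcases p.par.sup_eq_or_inf_le p.Rs2 (syl_not_dvd p.syl) inf_le_left hYn with h1 | h1
  · exfalso
    apply p.nY
    rw [← h1]
    refine sup_le (fun x hx => ?_) (p.RsF₀ h)
    have := ((hmemN x).1 hx).2 1 (one_mem _)
    rwa [one_mul] at this
  · exact h1 ⟨p.ARs ha, (hmemN a).2 ⟨p.AY ha, hfix⟩⟩

theorem A_not_le [Finite G] (h : One F T F₀ 𝓐 U l Z) : ¬ A ≤ o2 Y := by
  intro h1
  obtain ⟨y, hy, hyn⟩ := SetLike.not_le_iff_exists.1 p.nY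
  exact p.not_fix h hy hyn (h1.trans ((p.o2_le_cj hy).trans h.cj_T_le))

/-- `[x, b]` is centralised by `a` if `[x, a]` is centralised by `b`. -/
theorem swap (h : One F T F₀ 𝓐 U l Z) {x a b : G} (hxΛ : x ∈ Λ) (ha : a ∈ A) (hb : b ∈ A)
    (h1 : b * (x * (a * x * a⁻¹)) = x * (a * x * a⁻¹) * b) : a * (x * (b * x * b⁻¹)) = x * (b * x * b⁻¹) * a := by
  have hax := One.conj_Lam (h.fam.le A p.hA ha) hxΛ
  have hbx := One.conj_Lam (h.fam.le A p.hA hb) hxΛ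
  have hw := elem_swap (h.fam.elem A p.hA) ha hb hxΛ
  have hwΛ := One.conj_Lam (h.fam.le A p.hA hb) hax
  set w := b * (a * x * a⁻¹) * b⁻¹ with hwdef
  have h2 : b * (x * (a * x * a⁻¹)) * b⁻¹ = x * (a * x * a⁻¹) := by rw [h1, mul_inv_cancel_right]
  have e1 : b * (x * (a * x * a⁻¹)) * b⁻¹ = (b * x * b⁻¹) * w := by rw [hwdef]; group
  have e2 : a * (x * (b * x * b⁻¹)) * a⁻¹ = (a * x * a⁻¹) * w := by
    rw [← hw]; group
  rw [e1] at h2
  have hbb := h.sq _ hbx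
  have haa := h.sq _ hax
  have e3 : w = (b * x * b⁻¹) * (x * (a * x * a⁻¹)) := by
    rw [← h2, ← mul_assoc, hbb, one_mul]
  have h3 : a * (x * (b * x * b⁻¹)) * a⁻¹ = x * (b * x * b⁻¹) := by
    rw [e2, e3]
    have c1 := h.comm _ hax _ hbx
    have c2 := h.comm x hxΛ _ hax
    have c3 := h.comm x hxΛ _ hbx
    calc (a * x * a⁻¹) * ((b * x * b⁻¹) * (x * (a * x * a⁻¹)))
        = ((a * x * a⁻¹) * (b * x * b⁻¹)) * (x * (a * x * a⁻¹)) := by group
      _ = ((b * x * b⁻¹) * (a * x * a⁻¹)) * ((a * x * a⁻¹) * x) := by rw [c1, c2]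
      _ = (b * x * b⁻¹) * ((a * x * a⁻¹) * (a * x * a⁻¹)) * x := by group
      _ = x * (b * x * b⁻¹) := by rw [haa, mul_one, c3]
  rw [mul_inv_eq_iff_eq_mul] at h3
  exact h3

/-- **(a)** -/
theorem quad [Finite G] (h : One F T F₀ 𝓐 U l Z) {y : G} (hy : y ∈ Y) (hyn : y ∉ cj g F₀) {i : ι} {x : G}
    (hx : x ∈ cj (y * g) (l i)) {a b : G} (ha : a ∈ A) (hb : b ∈ A) :
    b * (x * (a * x * a⁻¹)) = x * (a * x * a⁻¹) * b := by
  classical
  set k := y * g with hk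
  have hkF : k ∈ F := p.yF hy
  set lk := cj k (l i) with hl
  have hlΛ : lk ≤ Λ := (cj_mono k (h.l_le i)).trans (One.cjU_le_Lam hkF)
  have hmain : ⁅lk, A⁆ ≤ centralizer (A : Set G) := by
    by_contra hcon
    obtain ⟨B', hB', hBB', hB'B, h2⟩ := h.fam.exists_rep h.Lam_elab p.hA hlΛ
    have h3 := h.fam.cent h.Lam_elab p.hA hlΛ
    set B : Subgroup G := A ⊓ centralizer ((⁅lk, A⁆ : Subgroup G) : Set G) with hB
    have hApN : B' ≤ normalizer (R : Set G) :=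
      hB'B.trans (sup_le (inf_le_left.trans p.AN) (h.Lam_le_O.trans p.mx.On))
    have hApR : B' ≤ R := by
      by_contra h4
      exact absurd (p.Amax B' hB' hApN h4) (not_le.2 (h2 hcon))
    have hApk : B' ≤ cj k T := hApR.trans (p.R_le_o2.trans (p.o2_le_cj hy))
    have h4T : cj k⁻¹ B' ≤ T := by
      rw [cj_le_iff, inv_inv]
      exact hApk
    rcases h.H2 _ (h.fam.conj k⁻¹ (inv_mem hkF) B' hB') h4T i with h4 | h4
    · -- `B'` centralises `l`
      apply hcon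
      have h5 : ⁅lk, A⁆ = ⊥ := by
        refine commutator_eq_bot_iff_le_centralizer.2 (h3 fun b hb u hu => ?_)
        have h6 := h4 (k⁻¹ * b * k) (by
          have := conj_mem_cj (g := k⁻¹) (hBB' hb)
          rwa [inv_inv] at this) _ (mem_cj.1 hu)
        have e1 : k⁻¹ * b * k * (k⁻¹ * u * k) = k⁻¹ * (b * u) * k := by group
        have e2 : k⁻¹ * u * k * (k⁻¹ * b * k) = k⁻¹ * (u * b) * k := by group
        rw [e1, e2] at h6
        exact mul_left_cancel (mul_right_cancel h6)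
      rw [h5]
      exact bot_le
    · -- `A` centralises `Z i`
      refine p.not_fix h hy hyn fun a ha => h.H1' (i := i) hkF (h.fam.le A p.hA ha) fun x hx => ?_
      have h5 : cj k (Z i) ≤ centralizer (A : Set G) := by
        refine (cj_mono k h4).trans ?_
        rw [cj_le_iff, closure_le]
        rintro _ ⟨x, hx, a', ha', rfl⟩
        have h6 : k * x * k⁻¹ ∈ lk := conj_mem_cj hx
        have h7 : k * a' * k⁻¹ ∈ B ⊔ Λ := by
          have h11 := mem_cj.1 ha'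
          rw [inv_inv] at h11
          exact hB'B h11
        obtain ⟨b, hb, c, hc, hbc⟩ : ∃ b ∈ B, ∃ c ∈ Λ, b * c = k * a' * k⁻¹ := by
          refine NO3b.CTwo.mem_sup_of_le_norm (fun b hb => ?_) h7
          exact One.F_nor (h.fam.le A p.hA hb.1)
        have h8 : c * (k * x * k⁻¹) = (k * x * k⁻¹) * c := h.comm c hc _ (hlΛ h6)
        have h9 : (k * a' * k⁻¹) * (k * x * k⁻¹) * (k * a' * k⁻¹)⁻¹ = b * (k * x * k⁻¹) * b⁻¹ := by
          rw [← hbc]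
          calc b * c * (k * x * k⁻¹) * (b * c)⁻¹ = b * (c * (k * x * k⁻¹)) * c⁻¹ * b⁻¹ := by group
            _ = b * ((k * x * k⁻¹) * c) * c⁻¹ * b⁻¹ := by rw [h8]
            _ = _ := by group
        have h10 : ∀ a ∈ A, a * ((k * x * k⁻¹) * (b * (k * x * k⁻¹) * b⁻¹)) =
            ((k * x * k⁻¹) * (b * (k * x * k⁻¹) * b⁻¹)) * a := by
          intro a ha
          refine p.swap h (hlΛ h6) ha hb.1 ?_
          have hxi : (k * x * k⁻¹)⁻¹ = k * x * k⁻¹ := inv_eq_of_mul_eq_one_left (h.sq _ (hlΛ h6))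
          have h11 : ⁅k * x * k⁻¹, a⁆ = (k * x * k⁻¹) * (a * (k * x * k⁻¹) * a⁻¹) := by
            calc ⁅k * x * k⁻¹, a⁆ = (k * x * k⁻¹) * (a * (k * x * k⁻¹)⁻¹ * a⁻¹) := by
                  rw [commutatorElement_def]; group
              _ = _ := by rw [hxi]
          rw [← h11]
          exact (mem_centralizer_iff.1 hb.2 _ (commutator_mem_commutator h6 ha)).symm
        change x * (a' * x * a'⁻¹) ∈ cj k⁻¹ (centralizer (A : Set G))
        rw [mem_cj, inv_inv, mem_centralizer_iff]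
        intro a ha
        have e : k * (x * (a' * x * a'⁻¹)) * k⁻¹ =
            (k * x * k⁻¹) * ((k * a' * k⁻¹) * (k * x * k⁻¹) * (k * a' * k⁻¹)⁻¹) := by group
        rw [e, h9]
        exact h10 a ha
      exact mem_centralizer_iff.1 (h5 hx) a ha
  have hxi : x⁻¹ = x := inv_eq_of_mul_eq_one_left (h.sq x (hlΛ hx))
  have h1 : ⁅x, a⁆ = x * (a * x * a⁻¹) := by
    rw [commutatorElement_def, hxi]; group
  rw [← h1]
  exact mem_centralizer_iff.1 (hmain (commutator_mem_commutator hx ha)) b hb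

/-- The group `K' = ⟨U^{yg} : y ∈ Y moves the point⟩`. -/
def KK (U F₀ Y : Subgroup G) (g : G) : Subgroup G :=
  ⨆ y : {y : G // y ∈ Y ∧ y ∉ cj g F₀}, cj ((y : G) * g) U

omit p in
theorem le_KK {y : G} (hy : y ∈ Y) (hyn : y ∉ cj g F₀) : cj (y * g) U ≤ KK U F₀ Y g :=
  le_iSup (fun y : {y : G // y ∈ Y ∧ y ∉ cj g F₀} => cj ((y : G) * g) U) ⟨y, hy, hyn⟩

theorem KK_le : KK U F₀ Y g ≤ Λ := iSup_le fun y => One.cjU_le_Lam (p.yF y.2.1)

/-- The subgroup of `Λ` on which `a, b` act quadratically. -/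
theorem quad_sup [Finite G] (h : One F T F₀ 𝓐 U l Z) {a b : G} (ha : a ∈ A) {κ : Sort*} {W : κ → Subgroup G}
    (hW : ∀ k, W k ≤ Λ) (hq : ∀ k, ∀ x ∈ W k, b * (x * (a * x * a⁻¹)) = x * (a * x * a⁻¹) * b) {x : G}
    (hx : x ∈ ⨆ k, W k) : b * (x * (a * x * a⁻¹)) = x * (a * x * a⁻¹) * b := by
  have haF := h.fam.le A p.hA ha
  let L : Subgroup G :=
    { carrier := {x | x ∈ Λ ∧ b * (x * (a * x * a⁻¹)) = x * (a * x * a⁻¹) * b}
      one_mem' := ⟨one_mem _, by simp⟩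
      mul_mem' := by
        rintro x w ⟨hx, hx'⟩ ⟨hw, hw'⟩
        refine ⟨mul_mem hx hw, ?_⟩
        have h1 := h.comm w hw _ (One.conj_Lam haF hx)
        have e : x * w * (a * (x * w) * a⁻¹) = (x * (a * x * a⁻¹)) * (w * (a * w * a⁻¹)) := by
          calc x * w * (a * (x * w) * a⁻¹) = x * (w * (a * x * a⁻¹)) * (a * w * a⁻¹) := by group
            _ = x * ((a * x * a⁻¹) * w) * (a * w * a⁻¹) := by rw [h1]
            _ = _ := by group
        rw [e]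
        calc b * ((x * (a * x * a⁻¹)) * (w * (a * w * a⁻¹))) = (b * (x * (a * x * a⁻¹))) * (w * (a * w * a⁻¹)) := by
              group
          _ = (x * (a * x * a⁻¹)) * (b * (w * (a * w * a⁻¹))) := by rw [hx']; group
          _ = _ := by rw [hw']; group
      inv_mem' := by
        rintro x ⟨hx, hx'⟩
        have : x⁻¹ = x := inv_eq_of_mul_eq_one_left (h.sq x hx)
        rw [this]
        exact ⟨hx, hx'⟩ }
  have hL : (⨆ k, W k) ≤ L := iSup_le fun k w hw => ⟨hW k hw, hq k w hw⟩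
  exact (hL hx).2

/-- quadratic on `U^{yg}` -/
theorem quad' [Finite G] (h : One F T F₀ 𝓐 U l Z) {y : G} (hy : y ∈ Y) (hyn : y ∉ cj g F₀) {x : G}
    (hx : x ∈ cj (y * g) U) {a b : G} (ha : a ∈ A) (hb : b ∈ A) :
    b * (x * (a * x * a⁻¹)) = x * (a * x * a⁻¹) * b := by
  have hx' : x ∈ ⨆ i, cj (y * g) (l i) := by
    rw [← cj_iSup, ← h.sup]
    exact hx
  exact p.quad_sup h ha (fun i => (cj_mono _ (h.l_le i)).trans (One.cjU_le_Lam (p.yF hy)))
    (fun i x hx => p.quad h hy hyn hx ha hb) hx'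

/-- **(b), first case.** -/
theorem not_case_one [Finite G] (h : One F T F₀ 𝓐 U l Z) (hc : A ⊓ o2 Y ≤ centralizer (KK U F₀ Y g : Set G)) :
    ¬ cj g U ≤ KK U F₀ Y g := by
  intro hle
  set VA := cj g U with hVA
  set ΛY := NoFF.Basic.V VA Y with hΛY
  have hΛK : ΛY ≤ KK U F₀ Y g := by
    refine NoFF.Basic.V_le fun y hy => ?_
    change cj y (cj g U) ≤ _
    rw [cj_cj]
    by_cases hyn : y ∈ cj g F₀
    · have h1 : cj y (KK U F₀ Y g) ≤ KK U F₀ Y g := by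
        rw [KK, cj_iSup]
        refine iSup_le fun w => ?_
        rw [cj_cj, ← mul_assoc]
        refine le_KK (mul_mem hy w.2.1) fun h2 => w.2.2 ?_
        have := mul_mem (inv_mem hyn) h2
        rwa [inv_mul_cancel_left] at this
      rw [← cj_cj]
      exact (cj_mono y hle).trans h1
    · exact le_KK hy hyn
  have hΛL : ΛY ≤ Λ := hΛK.trans p.KK_le
  have hel : IsElementaryAbelian 2 ΛY := elab_mono h.Lam_elab hΛL
  obtain ⟨i⟩ := h.ne
  have hYgen : Y ≤ oddGen Y ⊔ Rs := (Dich.oddGen_sup_syl p.syl).ge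
  have xd : XD Rs Y VA := by
    refine ⟨p.Rs2, p.RsY, hYgen, p.o2_le_Rs, ?_, elab_comm hel, elab_sq hel, ?_⟩
    · refine p.RsT.trans ?_
      rw [← cj_normalizer]
      exact cj_mono g h.TU
    · intro h1
      apply p.nY
      have h2 : Y ≤ cj g (F ⊓ normalizer (U : Set G)) := by
        rw [cj_inf, cj_self p.gF, cj_normalizer]
        exact le_inf p.YF h1
      exact h2.trans (cj_mono g h.H4)
  have hno : NoOvM Y ΛY := noOvM p.syl p.par (elab_comm hel) (elab_sq hel)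
  have hEM : ElemM ΛY A := ⟨fun a ha => centralizer_le hΛL ((h.fam.elem A p.hA).sq a ha), fun a ha b hb =>
    centralizer_le hΛL ((h.fam.elem A p.hA).comm a ha b hb)⟩
  have h2 : ∃ c ∈ (⁅ΛY, o2 Y⁆ : Subgroup G), ∃ x ∈ oddGen Y, c * x ≠ x * c := by
    by_contra hcon
    push Not at hcon
    apply p.nY
    refine hYgen.trans (sup_le (fun x hx => ?_) (p.RsF₀ h))
    refine h.H1' (i := i) p.gF (p.YF (oddGen_le Y hx)) fun c hc' => (hcon c ?_ x hx).symm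
    have h3 := cj_mono g (h.H3 i) hc'
    have h4 : cj g (⁅U, o2 F⁆ : Subgroup G) = ⁅cj g U, cj g (o2 F)⁆ := map_commutator _ _ _
    rw [h4, cj_o2_self p.gF] at h3
    refine commutator_mono ?_ p.O_le_o2 h3
    have := NoFF.Basic.Z_le_V (Z := VA) (P := Y) (one_mem Y)
    rwa [map_one, one_smul] at this
  have h3 := xd.sq_leM hno h2 p.AY (h.fam.two A p.hA) hEM
  have h4 := h.fam.off A p.hA _ hΛL
  have h5 : (centralizer (ΛY : Set G)).relIndex A ≤ (o2 Y).relIndex A := by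
    rw [← inf_relIndex_right (o2 Y) A]
    refine relIndex_le_of_le_left ?_ (relIndex_ne _ _)
    rw [inf_comm]
    exact hc.trans (centralizer_le hΛK)
  have h6 := h3.trans (h4.trans h5)
  have h7 : 0 < (o2 Y).relIndex A := Nat.pos_of_ne_zero (relIndex_ne _ _)
  have h8 : (o2 Y).relIndex A ≤ 1 := Nat.le_of_mul_le_mul_left (h6.trans (by omega)) h7
  exact p.A_not_le h (relIndex_eq_one.1 (by omega))

/-- **(b)** -/
theorem not_cent [Finite G] (h : One F T F₀ 𝓐 U l Z) : ¬ A ⊓ o2 Y ≤ centralizer (KK U F₀ Y g : Set G) := by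
  classical
  intro hc
  have hno := p.not_case_one h hc
  have hAg : A ≤ cj g F₀ := p.ARs.trans (p.RsF₀ h)
  let P : Type u := {K : Subgroup G // ∃ y ∈ Y, y ∉ cj g F₀ ∧ K = cj (y * g) F₀}
  have hmemA : ∀ (a : A) (K : P), ∃ y ∈ Y, y ∉ cj g F₀ ∧ cj (a : G) K.1 = cj (y * g) F₀ := by
    rintro a ⟨K, y, hy, hyn, rfl⟩
    refine ⟨a * y, mul_mem (p.AY a.2) hy, fun h1 => hyn ?_, by rw [cj_cj, mul_assoc]⟩
    have := mul_mem (inv_mem (hAg a.2)) h1
    rwa [inv_mul_cancel_left] at this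
  let act : MulAction A P :=
    { smul := fun a K => ⟨cj (a : G) K.1, hmemA a K⟩
      one_smul := fun K => Subtype.ext (cj_one K.1)
      mul_smul := fun a b K => Subtype.ext (cj_cj (a : G) (b : G) K.1).symm }
  have hsm : ∀ (a : A) (K : P), (a • K).1 = cj (a : G) K.1 := fun a K => rfl
  let W : P → Subgroup G := fun K => ⨆ y : {y : G // y ∈ Y ∧ cj (y * g) F₀ = K.1}, cj ((y : G) * g) U
  have hWdef : ∀ K : P, W K = ⨆ y : {y : G // y ∈ Y ∧ cj (y * g) F₀ = K.1}, cj ((y : G) * g) U := fun _ => rfl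
  have leW : ∀ (K : P) (y : G), y ∈ Y → cj (y * g) F₀ = K.1 → cj (y * g) U ≤ W K := fun K y hy hK =>
    le_iSup (fun y : {y : G // y ∈ Y ∧ cj (y * g) F₀ = K.1} => cj ((y : G) * g) U) ⟨y, hy, hK⟩
  have hrep : ∀ (K : P) (y : G), y ∈ Y → cj (y * g) F₀ = K.1 → y ∉ cj g F₀ := by
    rintro ⟨K, y₀, hy₀, hyn₀, rfl⟩ y hy hK hyg
    apply hyn₀
    have h1 : cj y (cj g F₀) = cj g F₀ := cj_self hyg
    have h2 : cj y (cj g F₀) = cj y₀ (cj g F₀) := by
      rw [cj_cj, cj_cj]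
      exact hK
    exact h.mem_of_cj_eq (p.YF hy₀) p.gF (h2.symm.trans h1)
  have hKK : (⨆ K, W K) = KK U F₀ Y g := by
    apply le_antisymm
    · refine iSup_le fun K => iSup_le fun y => ?_
      exact le_KK y.2.1 (hrep K y y.2.1 y.2.2)
    · refine iSup_le fun y => ?_
      exact (leW ⟨cj ((y : G) * g) F₀, y, y.2.1, y.2.2, rfl⟩ y y.2.1 rfl).trans (le_iSup W _)
  have hWa' : ∀ (a : A) (K : P), cj (a : G) (W K) ≤ W (a • K) := by
    intro a K
    rw [hWdef K, cj_iSup]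
    refine iSup_le fun y => ?_
    rw [cj_cj, ← mul_assoc]
    refine leW (a • K) ((a : G) * y) (mul_mem (p.AY a.2) y.2.1) ?_
    have h1 := y.2.2
    rw [hsm, mul_assoc, ← cj_cj, h1]
  have hWa : ∀ (a : A) (K : P), cj (a : G) (W K) = W (a • K) := by
    intro a K
    refine le_antisymm (hWa' a K) ?_
    have h1 := cj_mono (a : G) (hWa' a⁻¹ (a • K))
    rw [inv_smul_smul] at h1
    have h2 : ((a⁻¹ : A) : G) = (a : G)⁻¹ := rfl
    rwa [h2, cj_cj_inv] at h1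
  have hne : Nonempty P := by
    obtain ⟨y, hy, hyn⟩ := SetLike.not_le_iff_exists.1 p.nY
    exact ⟨⟨_, y, hy, hyn, rfl⟩⟩
  have hfin : Finite P := Subtype.finite
  have hWL : ∀ K, W K ≤ Λ := fun K => iSup_le fun y => One.cjU_le_Lam (p.yF y.2.1)
  have hq : ∀ K, ∀ x ∈ W K, ∀ a ∈ A, ∀ b ∈ A, b * (x * (a * x * a⁻¹)) = x * (a * x * a⁻¹) * b :=
    fun K x hx a ha b hb => p.quad_sup h ha
      (W := fun y : {y : G // y ∈ Y ∧ cj (y * g) F₀ = K.1} => cj ((y : G) * g) U)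
      (fun y => One.cjU_le_Lam (p.yF y.2.1))
      (fun y x hx => p.quad' h y.2.1 (hrep K y y.2.1 y.2.2) hx ha hb) hx
  have hind : ∀ K, ¬ W K ≤ ⨆ K', ⨆ _ : K' ≠ K, W K' := by
    intro K hle
    obtain ⟨y, hy, hyn, hK⟩ := K.2
    apply hno
    have h1 := cj_mono y⁻¹ ((leW K y hy hK.symm).trans hle)
    rw [← cj_cj, cj_inv_cj] at h1
    refine h1.trans ?_
    rw [cj_iSup]
    refine iSup_le fun K' => ?_
    rw [cj_iSup]
    refine iSup_le fun hK' => ?_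
    rw [hWdef, cj_iSup]
    refine iSup_le fun y' => ?_
    rw [cj_cj, ← mul_assoc]
    refine le_KK (mul_mem (inv_mem hy) y'.2.1) fun h2 => hK' (Subtype.ext ?_)
    rw [← y'.2.2, hK]
    have e : (y' : G) * g = y * ((y⁻¹ * y') * g) := by group
    rw [e, ← cj_cj y, ← cj_cj (y⁻¹ * y') g, cj_self h2, cj_cj]
  have hmv : ∀ K : P, ∃ a : A, a • K ≠ K := by
    intro K
    obtain ⟨y, hy, hyn, hK⟩ := K.2
    obtain ⟨a, ha, han⟩ := SetLike.not_le_iff_exists.1 (p.not_fix h hy hyn)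
    refine ⟨⟨a, ha⟩, fun h1 => han ?_⟩
    have h2 := congrArg Subtype.val h1
    rw [hsm, hK] at h2
    exact h.mem_of_cj_eq (h.fam.le A p.hA ha) (p.yF hy) h2
  -- `O` normalises all `U^{yg}`, so all `W K`
  have hOU : ∀ y ∈ Y, o2 F ≤ normalizer ((cj (y * g) U : Subgroup G) : Set G) := by
    intro y hy
    rw [← cj_normalizer]
    exact (h.O_le_cj (p.yF hy)).trans (cj_mono _ h.TU)
  have hOW : ∀ K, o2 F ≤ normalizer ((W K : Subgroup G) : Set G) := by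
    intro K o ho
    rw [mem_normalizer_iff_cj, hWdef, cj_iSup]
    exact iSup_congr fun y => cj_eq_of_mem_normalizer (hOU y y.2.1 ho)
  obtain ⟨i⟩ := h.ne
  have hl : ∀ K, 4 ≤ (centralizer (A : Set G)).relIndex (W K) := by
    intro K
    by_contra hcon
    push Not at hcon
    obtain ⟨y, hy, hyn, hK⟩ := K.2
    obtain ⟨a, haK⟩ := hmv K
    set C := centralizer (A : Set G) ⊓ W K with hC
    set M := W K ⊓ ⨆ K', ⨆ _ : K' ≠ K, W K' with hM
    have hCW : C ≤ W K := inf_le_right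
    have hMW : M ≤ W K := inf_le_left
    have hCM : C ≤ M := by
      rintro x ⟨hx1, hx2⟩
      refine ⟨hx2, ?_⟩
      have h1 : x ∈ W (a • K) := by
        rw [← hWa]
        have h3 := mem_centralizer_iff.1 hx1 (a : G) a.2
        have : (a : G) * x * (a : G)⁻¹ = x := by rw [h3, mul_inv_cancel_right]
        rw [← this]
        exact conj_mem_cj hx2
      exact (le_iSup₂ (f := fun K' (_ : K' ≠ K) => W K') (a • K) haK) h1
    have hMne : M ≠ W K := fun h1 => hind K (inf_eq_left.1 h1)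
    have hrel : (centralizer (A : Set G)).relIndex (W K) = C.relIndex M * M.relIndex (W K) := by
      rw [relIndex_mul_relIndex C M (W K) hCM hMW, inf_relIndex_right]
    have h0C : C.relIndex M ≠ 0 := relIndex_ne _ _
    have h0M : M.relIndex (W K) ≠ 0 := relIndex_ne _ _
    have h1M : M.relIndex (W K) ≠ 1 := fun h1 => hMne (le_antisymm hMW (relIndex_eq_one.1 h1))
    have hM2 : M.relIndex (W K) = 2 ∧ C.relIndex M = 1 := by
      have : Fact (Nat.Prime 2) := ⟨Nat.prime_two⟩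
      rw [hrel] at hcon
      have h2 : 2 ≤ M.relIndex (W K) := by omega
      have h3 : M.relIndex (W K) ≤ 3 := by
        by_contra h4
        have h5 : 4 ≤ M.relIndex (W K) := by omega
        have h6 : 1 * 4 ≤ C.relIndex M * M.relIndex (W K) := Nat.mul_le_mul (by omega) h5
        omega
      have h4 : C.relIndex M = 1 := by
        by_contra h5
        have h6 : 2 ≤ C.relIndex M := by omega
        have h7 := Nat.mul_le_mul h6 h2
        omega
      refine ⟨?_, h4⟩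
      obtain ⟨n, hn⟩ := (isPGroup_of_elab (elab_mono h.Lam_elab (hWL K))).index (M.subgroupOf (W K))
      change M.relIndex (W K) = 2 ^ n at hn
      match n, hn with
      | 0, hn => exact absurd hn h1M
      | 1, hn => rw [hn]; norm_num
      | n + 2, hn =>
        exfalso
        have : 2 ^ 2 ≤ 2 ^ (n + 2) := Nat.pow_le_pow_right (by norm_num) (by omega)
        omega
    have hMC : M = C := le_antisymm (relIndex_eq_one.1 hM2.2) hCM
    -- `[W, O] ≤ M`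
    have hMn : o2 F ≤ normalizer ((M : Subgroup G) : Set G) := by
      intro o ho
      have e : cj o M = cj o (W K) ⊓ cj o (⨆ K', ⨆ _ : K' ≠ K, W K') := cj_inf _ _ _
      rw [mem_normalizer_iff_cj, e, cj_eq_of_mem_normalizer (hOW K ho), cj_iSup]
      have e2 : (⨆ K', cj o (⨆ _ : K' ≠ K, W K')) = ⨆ K', ⨆ _ : K' ≠ K, W K' := by
        refine iSup_congr fun K' => ?_
        rw [cj_iSup]
        exact iSup_congr fun _ => cj_eq_of_mem_normalizer (hOW K' ho)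
      rw [e2]
    have hcom : ⁅W K, o2 F⁆ ≤ M := by
      rw [commutator_le]
      intro x hx o ho
      by_cases hxM : x ∈ M
      · have h1 := (mem_normalizer_iff.1 (hMn ho) x⁻¹).1 (inv_mem hxM)
        have h2 := mul_mem hxM h1
        have e : x * (o * x⁻¹ * o⁻¹) = ⁅x, o⁆ := by rw [commutatorElement_def]; group
        rwa [e] at h2
      · have hox : o * x * o⁻¹ ∉ M := fun h1 => hxM ((mem_normalizer_iff.1 (hMn ho) x).2 h1)
        have hoxW : o * x * o⁻¹ ∈ W K := (mem_normalizer_iff.1 (hOW K ho) x).1 hx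
        have h3 := (mul_mem_iff_of_index_two hM2.1 (a := ⟨x, hx⟩) (b := ⟨(o * x * o⁻¹)⁻¹, inv_mem hoxW⟩)).2
          ⟨fun h => absurd h hxM, fun h => absurd (by
            have := inv_mem h
            rw [mem_subgroupOf] at this
            simpa using this) hox⟩
        rw [mem_subgroupOf] at h3
        have e : x * (o * x * o⁻¹)⁻¹ = ⁅x, o⁆ := by rw [commutatorElement_def]; group
        rw [← e]
        exact h3
    -- `A` centralises a conjugate of `Z i`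
    refine p.not_fix h hy hyn fun b hb => h.H1' (i := i) (p.yF hy) (h.fam.le A p.hA hb) fun x hx => ?_
    have h3 := cj_mono (y * g) (h.H3 i) hx
    have h4 : cj (y * g) (⁅U, o2 F⁆ : Subgroup G) = ⁅cj (y * g) U, cj (y * g) (o2 F)⁆ := map_commutator _ _ _
    rw [h4, cj_o2_self (p.yF hy)] at h3
    have h5 : x ∈ M := hcom (commutator_mono (leW K y hy hK.symm) le_rfl h3)
    rw [hMC] at h5
    exact mem_centralizer_iff.1 h5.1 b hb
  have h0 : ∀ a : A, (∀ K : P, a • K = K) → (a : G) ∈ A ⊓ o2 Y := by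
    intro a ha
    refine ⟨a.2, p.ker h a.2 fun y hy => ?_⟩
    by_cases hyn : y ∈ cj g F₀
    · rw [← cj_cj, cj_self hyn]
      exact hAg a.2
    · have h1 := congrArg Subtype.val (ha ⟨cj (y * g) F₀, y, hy, hyn, rfl⟩)
      rw [hsm] at h1
      exact h.mem_of_cj_eq (h.fam.le A p.hA a.2) (p.yF hy) h1
  have main := count_points' h.comm W hWL hWa hq hind hmv hl h0
  rw [hKK] at main
  have h4 := h.fam.off A p.hA _ p.KK_le
  have h5 : (centralizer (KK U F₀ Y g : Set G)).relIndex A ≤ (A ⊓ o2 Y).relIndex A :=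
    relIndex_le_of_le_left hc (relIndex_ne _ _)
  have h7 : 0 < (A ⊓ o2 Y).relIndex A := Nat.pos_of_ne_zero (relIndex_ne _ _)
  omega

end GPan

/-- **STEP 1, general form.** -/
theorem One.exists_one [Finite G] (h : One F T F₀ 𝓐 U l Z) : ∃ c ∈ T, (∀ u ∈ U, c * (c * u * c⁻¹) * c⁻¹ = u) ∧
    (∃ u ∈ U, c * u ≠ u * c) ∧
    ∃ a ∈ F, a ∉ F₀ ∧ ∀ u ∈ U, a * (u * (c * u * c⁻¹)) = u * (c * u * c⁻¹) * a := by
  classical
  obtain ⟨R, A, Y, Rs, g, p⟩ := h.exists_pan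
  have hnc := p.not_cent h
  obtain ⟨y, hy, hyn, c, hc, x₀, hx₀, hcx⟩ : ∃ y ∈ Y, y ∉ cj g F₀ ∧ ∃ c ∈ A ⊓ o2 Y,
      ∃ x ∈ cj (y * g) U, c * x ≠ x * c := by
    by_contra hcon
    push Not at hcon
    apply hnc
    rw [le_centralizer_iff, GPan.KK]
    refine iSup_le fun y x hx => ?_
    exact mem_centralizer_iff.2 fun c hc => hcon y y.2.1 y.2.2 c hc x hx
  set k := y * g with hk
  have hkF : k ∈ F := p.yF hy
  have hcT : k⁻¹ * c * k ∈ T := by
    rw [← mem_cj]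
    exact p.o2_le_cj hy hc.2
  obtain ⟨a, ha, han⟩ := SetLike.not_le_iff_exists.1 (p.not_fix h hy hyn)
  have hconj : ∀ x : G, k⁻¹ * c * k * x * (k⁻¹ * c * k)⁻¹ = k⁻¹ * (c * (k * x * k⁻¹) * c⁻¹) * k := by
    intro x; group
  refine ⟨k⁻¹ * c * k, hcT, ?_, ⟨k⁻¹ * x₀ * k, mem_cj.1 hx₀, fun h1 => hcx ?_⟩, k⁻¹ * a * k,
    mul_mem (mul_mem (inv_mem hkF) (h.fam.le A p.hA ha)) hkF, fun h1 => han (mem_cj.2 h1), ?_⟩
  · intro u hu
    have hu' : k * u * k⁻¹ ∈ NoFF.Basic.V U F := One.cjU_le_Lam hkF (conj_mem_cj hu)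
    have h1 := elem_two (h.fam.elem A p.hA) hc.1 hu'
    calc k⁻¹ * c * k * (k⁻¹ * c * k * u * (k⁻¹ * c * k)⁻¹) * (k⁻¹ * c * k)⁻¹
        = k⁻¹ * (c * (c * (k * u * k⁻¹) * c⁻¹) * c⁻¹) * k := by group
      _ = k⁻¹ * (k * u * k⁻¹) * k := by rw [h1]
      _ = u := by group
  · have e1 : k⁻¹ * c * k * (k⁻¹ * x₀ * k) = k⁻¹ * (c * x₀) * k := by group
    have e2 : k⁻¹ * x₀ * k * (k⁻¹ * c * k) = k⁻¹ * (x₀ * c) * k := by group
    rw [e1, e2] at h1
    exact mul_left_cancel (mul_right_cancel h1)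
  · intro x hx
    have h1 := p.quad' h hy hyn (conj_mem_cj (g := k) hx) hc.1 ha
    rw [hconj]
    have h2 := congrArg (fun t => k⁻¹ * t * k) h1
    have e1 : k⁻¹ * (a * (k * x * k⁻¹ * (c * (k * x * k⁻¹) * c⁻¹))) * k =
        k⁻¹ * a * k * (x * (k⁻¹ * (c * (k * x * k⁻¹) * c⁻¹) * k)) := by group
    have e2 : k⁻¹ * (k * x * k⁻¹ * (c * (k * x * k⁻¹) * c⁻¹) * a) * k =
        x * (k⁻¹ * (c * (k * x * k⁻¹) * c⁻¹) * k) * (k⁻¹ * a * k) := by group
    rw [e1, e2] at h2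
    exact h2

end Cfsg.Agent.Omega.OM.Swap.Fam

end

section


/-!
# THEOREM SW over a family: the situation `SitF`, and STEP 1 for it

`SitF.exists_star`.
-/

set_option autoImplicit false

namespace Cfsg.Agent.Omega.OM.Swap.Fam

open Subgroup Cfsg Cfsg.Agent.ZN Cfsg.Agent.ZN.ChoiceBase Cfsg.Agent.ZN.ChoiceSit
  Cfsg.Agent.MinSimple.VModule Cfsg.Agent.Omega.OmThm
open Cfsg.Agent.Omega.OM.Swap hiding Two One Mx
open Cfsg.Agent.MinSimple.MinParabolic (IsMinPar)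
open Cfsg.Agent.Omega.FFThm (ElemM)
open scoped Pointwise commutatorElement

universe u

/-- The situation of THEOREM SW over a family `𝓐`. `cj g H = g H g⁻¹`. -/
structure SitF {G : Type u} [Group G] {ι : Type*} (F T F₀ : Subgroup G) (𝓐 : Set (Subgroup G))
    (V : ι → Subgroup G) (z : ι → G) : Prop where
  syl : Syl T F
  TF₀ : T ≤ F₀
  F₀F : F₀ < F
  /-- `F₀` is the unique maximal subgroup of `F` over `T` -/
  max : ∀ K : Subgroup G, T ≤ K → K < F → K ≤ F₀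
  /-- the family -/
  fam : Fm F (NoFF.Basic.V (⨆ j, V j) F) 𝓐
  nJ : ∃ A ∈ 𝓐, A ≤ T ∧ ¬ A ≤ o2 F
  fin : Finite ι
  two : ∃ i j : ι, i ≠ j
  card : ∀ i, Nat.card (V i) = 4
  zV : ∀ i, z i ∈ V i
  z1 : ∀ i, z i ≠ 1
  VO : ∀ i, V i ≤ o2 F
  sq : ∀ i, ∀ x ∈ V i, x * x = 1
  comm : ∀ f ∈ F, ∀ i j, ∀ x ∈ V i, ∀ y ∈ V j, x * (f * y * f⁻¹) = f * y * f⁻¹ * x
  ind : ∀ i, ∀ x ∈ V i, x ∈ (⨆ j, ⨆ _ : j ≠ i, V j) → x = 1
  perm : ∀ t ∈ T, ∀ i, ∃ j, cj t (V i) = V j ∧ t * z i * t⁻¹ = z j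
  tr : ∀ i j, ∃ o ∈ o2 F, cj o (V i) = V j
  /-- the members of the family in `T` normalise the `V i` -/
  nor : ∀ A ∈ 𝓐, A ≤ T → ∀ a ∈ A, ∀ i, cj a (V i) = V i
  /-- exactness: a member which moves `V i` contains the transvection on `V i` -/
  hat : ∀ A ∈ 𝓐, A ≤ T → ∀ i, (∃ a ∈ A, ∃ x ∈ V i, a * x ≠ x * a) →
    ∃ a ∈ A, (∃ x ∈ V i, a * x ≠ x * a) ∧ ∀ j, j ≠ i → ∀ x ∈ V j, a * x = x * a
  mov : ∀ i, ∃ t ∈ T, (∃ x ∈ V i, t * x ≠ x * t) ∧ ∀ j, j ≠ i → ∀ x ∈ V j, t * x = x * t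
  zc : ∀ i j, i ≠ j → (∀ k, k = i ∨ k = j) → ∀ f ∈ F, f * (z i * z j) = z i * z j * f
  ti : ∀ i, ∀ x ∈ V i, x ≠ 1 → ∀ f ∈ F, x ∈ cj f (⨆ j, V j) → f ∈ F₀

variable {G : Type u} [Group G] {ι : Type*} {F T F₀ : Subgroup G} {𝓐 : Set (Subgroup G)} {V : ι → Subgroup G}
  {z : ι → G}

/-- `⟨z⟩` as the set `{1, z}`. -/
theorem mem_zpowers_iff_of_sq {x z : G} (hz : z * z = 1) : x ∈ zpowers z ↔ x = 1 ∨ x = z := by
  constructor
  · rintro ⟨n, rfl⟩
    have hz2 : z ^ (2 : ℤ) = 1 := by rw [zpow_ofNat, pow_two]; exact hz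
    rcases Int.even_or_odd' n with ⟨k, rfl | rfl⟩
    · left
      change z ^ (2 * k) = 1
      rw [zpow_mul, hz2, one_zpow]
    · right
      change z ^ (2 * k + 1) = z
      rw [zpow_add, zpow_mul, hz2, one_zpow, one_mul, zpow_one]
  · rintro (rfl | rfl)
    · exact one_mem _
    · exact mem_zpowers _

namespace SitF

variable (h : SitF F T F₀ 𝓐 V z)
include h

theorem T2 : IsPGroup 2 T := h.syl.2.1

theorem TF : T ≤ F := h.syl.1

theorem U0_le : U0 V ≤ o2 F := iSup_le h.VO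

theorem cj_T {t : G} (ht : t ∈ T) : cj t (U0 V) = U0 V := by
  have key : ∀ t ∈ T, cj t (U0 V) ≤ U0 V := by
    intro t ht
    rw [cj_iSup]
    refine iSup_le fun i => ?_
    obtain ⟨j, hj, -⟩ := h.perm t ht i
    rw [hj]
    exact le_iSup V j
  refine le_antisymm (key t ht) ?_
  have h1 := cj_mono t (key t⁻¹ (inv_mem ht))
  rwa [cj_cj_inv] at h1

theorem T_nor : T ≤ normalizer (U0 V : Set G) := fun _ ht => mem_normalizer_iff_cj.2 (h.cj_T ht)

theorem comm' {f g : G} (hf : f ∈ F) (hg : g ∈ F) {i j : ι} {x y : G} (hx : x ∈ cj f (V i)) (hy : y ∈ cj g (V j)) :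
    x * y = y * x := by
  have h1 := h.comm (f⁻¹ * g) (mul_mem (inv_mem hf) hg) i j _ (mem_cj.1 hx) _ (mem_cj.1 hy)
  have e1 : f⁻¹ * g * (g⁻¹ * y * g) * (f⁻¹ * g)⁻¹ = f⁻¹ * y * f := by group
  rw [e1] at h1
  have e2 : f⁻¹ * x * f * (f⁻¹ * y * f) = f⁻¹ * (x * y) * f := by group
  have e3 : f⁻¹ * y * f * (f⁻¹ * x * f) = f⁻¹ * (y * x) * f := by group
  rw [e2, e3] at h1
  exact mul_left_cancel (mul_right_cancel h1)

theorem sq' {f : G} {i : ι} {x : G} (hx : x ∈ cj f (V i)) : x * x = 1 := by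
  have h1 := h.sq i _ (mem_cj.1 hx)
  have e2 : f⁻¹ * x * f * (f⁻¹ * x * f) = f⁻¹ * (x * x) * f := by group
  rw [e2] at h1
  have : x * x = f * (f⁻¹ * (x * x) * f) * f⁻¹ := by group
  rw [this, h1]
  group

theorem Lam_ab : (∀ x ∈ Lam V F, ∀ y ∈ Lam V F, x * y = y * x) ∧ ∀ x ∈ Lam V F, x * x = 1 := by
  have e : Lam V F = ⨆ k : F × ι, cj (k.1 : G) (V k.2) := by
    rw [Sit.Lam_eq, iSup_prod]
  rw [e]
  exact elab_iSup (fun k l x hx y hy => h.comm' k.1.2 l.1.2 hx hy) fun k x hx => h.sq' hx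

/-- (TI) conjugated -/
theorem ti' {g g' : G} (hg : g ∈ F) (hg' : g' ∈ F) {i : ι} {x : G} (hx : x ∈ cj g (V i)) (hx1 : x ≠ 1)
    (hx' : x ∈ cj g' (U0 V)) : g⁻¹ * g' ∈ F₀ := by
  refine h.ti i (g⁻¹ * x * g) (mem_cj.1 hx) ?_ _ (mul_mem (inv_mem hg) hg') ?_
  · intro h1
    apply hx1
    have : x = g * (g⁻¹ * x * g) * g⁻¹ := by group
    rw [this, h1]
    group
  · rw [mem_cj]
    have : (g⁻¹ * g')⁻¹ * (g⁻¹ * x * g) * (g⁻¹ * g') = g'⁻¹ * x * g' := by group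
    rw [this]
    exact mem_cj.1 hx'

theorem ti_cent {g a : G} (hg : g ∈ F) (ha : a ∈ F) {i : ι} {x : G} (hx : x ∈ cj g (V i)) (hx1 : x ≠ 1)
    (hax : a * x = x * a) : a ∈ cj g F₀ := by
  rw [mem_cj]
  have h1 : x ∈ cj (a * g) (U0 V) := by
    rw [← cj_cj, mem_cj]
    have : a⁻¹ * x * a = x := by rw [mul_assoc, ← hax, inv_mul_cancel_left]
    rw [this]
    exact cj_mono g (le_iSup V i) hx
  have h2 := h.ti' hg (mul_mem ha hg) hx hx1 h1
  rwa [← mul_assoc] at h2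

/-- An element of `T` which normalises `V i` acts as `1` or as the transvection with centre `z i`. -/
theorem act {t : G} (ht : t ∈ T) {i : ι} (hti : cj t (V i) = V i) {x : G} (hx : x ∈ V i) :
    t * x * t⁻¹ = x ∨ t * x * t⁻¹ = x * z i := by
  classical
  -- `t` fixes `z i`
  have hz : t * z i * t⁻¹ = z i := by
    obtain ⟨j, hj, hjz⟩ := h.perm t ht i
    by_cases hij : j = i
    · rw [hjz, hij]
    · exfalso
      have h1 : V i = V j := hti.symm.trans hj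
      refine h.z1 i (h.ind i _ (h.zV i) ?_)
      have h2 : z i ∈ V j := h1 ▸ h.zV i
      exact (le_iSup₂ (f := fun j (_ : j ≠ i) => V j) j hij) h2
  have hzz := h.sq i _ (h.zV i)
  have htx : t * x * t⁻¹ ∈ V i := by rw [← hti]; exact conj_mem_cj hx
  by_cases h1 : x = 1
  · left; rw [h1]; group
  by_cases h2 : x = z i
  · left; rw [h2]; exact hz
  by_contra hcon
  push Not at hcon
  obtain ⟨hc1, hc2⟩ := hcon
  -- five elements `1, z, x, xz, txt⁻¹`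
  have hxx := h.sq i _ hx
  have hz1 := h.z1 i
  have hsub : ({1, z i, x, x * z i, t * x * t⁻¹} : Set G) ⊆ V i := by
    intro y hy
    simp only [Set.mem_insert_iff, Set.mem_singleton_iff] at hy
    rcases hy with rfl | rfl | rfl | rfl | rfl
    · exact one_mem _
    · exact h.zV i
    · exact hx
    · exact mul_mem hx (h.zV i)
    · exact htx
  have hcard : ({1, z i, x, x * z i, t * x * t⁻¹} : Finset G).card = 5 := by
    have e1 : (1 : G) ≠ z i := fun h => hz1 h.symm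
    have e2 : (1 : G) ≠ x := fun h => h1 h.symm
    have e3 : (1 : G) ≠ x * z i := fun h3 => h2 (by
      have := congrArg (· * z i) h3
      simp only [one_mul, mul_assoc, hzz, mul_one] at this
      exact this.symm)
    have e4 : (1 : G) ≠ t * x * t⁻¹ := fun h3 => h1 (by
      have := congrArg (fun w => t⁻¹ * w * t) h3
      simp only [mul_one, inv_mul_cancel] at this
      have e : t⁻¹ * (t * x * t⁻¹) * t = x := by group
      rw [e] at this
      exact this.symm)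
    have e5 : z i ≠ x := fun h => h2 h.symm
    have e6 : z i ≠ x * z i := fun h3 => h1 (by
      have := congrArg (· * z i) h3
      simp only [mul_assoc, hzz, mul_one] at this
      exact this.symm)
    have e7 : z i ≠ t * x * t⁻¹ := fun h3 => h2 (by
      rw [← hz] at h3
      exact (mul_left_cancel (mul_right_cancel h3)).symm)
    have e8 : x ≠ x * z i := fun h3 => hz1 (by
      have := congrArg (x⁻¹ * ·) h3
      simp only [inv_mul_cancel, inv_mul_cancel_left] at this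
      exact this.symm)
    have e9 : x ≠ t * x * t⁻¹ := fun h => hc1 h.symm
    have e10 : x * z i ≠ t * x * t⁻¹ := fun h => hc2 h.symm
    rw [Finset.card_insert_of_notMem, Finset.card_insert_of_notMem, Finset.card_insert_of_notMem,
      Finset.card_insert_of_notMem, Finset.card_singleton]
    · simpa using e10
    · simp only [Finset.mem_insert, Finset.mem_singleton, not_or]; exact ⟨e8, e9⟩
    · simp only [Finset.mem_insert, Finset.mem_singleton, not_or]; exact ⟨e5, e6, e7⟩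
    · simp only [Finset.mem_insert, Finset.mem_singleton, not_or]; exact ⟨e1, e2, e3, e4⟩
  have h3 : (({1, z i, x, x * z i, t * x * t⁻¹} : Finset G) : Set G) ⊆ V i := by
    simpa using hsub
  have hfin : (V i : Set G).Finite := by
    have : Finite (V i) := Nat.finite_of_card_ne_zero (by rw [h.card]; norm_num)
    exact Set.toFinite _
  have h4 := Set.ncard_le_ncard h3 hfin
  rw [Set.ncard_coe_finset, hcard] at h4
  have h5 : (V i : Set G).ncard = 4 := by rw [← Nat.card_coe_set_eq]; exact h.card i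
  omega

/-- (H4) `z i ∈ [⟨V j⟩, O]`. -/
theorem z_mem_comm [Finite G] (i : ι) : z i ∈ (⁅U0 V, o2 F⁆ : Subgroup G) := by
  obtain ⟨k, hk⟩ : ∃ k, k ≠ i := by
    obtain ⟨k, l, hkl⟩ := h.two
    by_cases h1 : k = i
    · exact ⟨l, fun h2 => hkl (h1.trans h2.symm)⟩
    · exact ⟨k, h1⟩
  obtain ⟨s, hs, hsV⟩ := h.tr i k
  obtain ⟨t, ht, ⟨x, hx, htx⟩, htriv⟩ := h.mov i
  have hti : cj t (V i) = V i := by
    obtain ⟨j, hj, -⟩ := h.perm t ht i
    by_cases hji : j = i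
    · rw [hj, hji]
    · exfalso
      -- `t` centralises `V j`, so `V j = cj t⁻¹ (V j) = V i`
      have h1 : cj t⁻¹ (V j) = V j := by
        ext w
        rw [mem_cj, inv_inv]
        constructor
        · intro h2
          have h3 := htriv j hji _ h2
          have : w = t⁻¹ * (t * w * t⁻¹) * t := by group
          rw [this, mul_assoc, ← h3, inv_mul_cancel_left]
          exact h2
        · intro h2
          rw [htriv j hji w h2, mul_inv_cancel_right]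
          exact h2
      rw [← hj, cj_inv_cj, hj] at h1
      refine h.z1 i (h.ind i _ (h.zV i) ?_)
      have h2 : z i ∈ V j := h1 ▸ h.zV i
      exact (le_iSup₂ (f := fun j (_ : j ≠ i) => V j) j hji) h2
  have h1 : t * x * t⁻¹ = x * z i := by
    rcases h.act ht hti hx with h2 | h2
    · exact absurd (mul_inv_eq_iff_eq_mul.1 h2) htx
    · exact h2
  have htF : t ∈ F := h.TF ht
  set o := t * (s⁻¹ * t⁻¹ * s) with ho
  have hoO : o ∈ o2 F := by
    have h2 : t * s⁻¹ * t⁻¹ ∈ o2 F := (mem_normalizer_iff.1 (ChoiceSit.le_normalizer_o2 F htF) _).1 (inv_mem hs)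
    have h3 := mul_mem h2 hs
    have e : t * s⁻¹ * t⁻¹ * s = o := by rw [ho]; group
    rwa [e] at h3
  have hsx : s * x * s⁻¹ ∈ V k := by rw [← hsV]; exact conj_mem_cj hx
  have h4 : t * (s * x * s⁻¹) = s * x * s⁻¹ * t := htriv k hk _ hsx
  have h5 : o * x * o⁻¹ = x * z i := by
    calc o * x * o⁻¹ = t * (s⁻¹ * (t⁻¹ * (s * x * s⁻¹ * t)) * s) * t⁻¹ := by rw [ho]; group
      _ = t * (s⁻¹ * (t⁻¹ * (t * (s * x * s⁻¹))) * s) * t⁻¹ := by rw [h4]
      _ = t * x * t⁻¹ := by group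
      _ = x * z i := h1
  have h6 : ⁅x, o⁆ = z i := by
    have hz : (z i)⁻¹ = z i := inv_eq_of_mul_eq_one_left (h.sq i _ (h.zV i))
    have hx' : x⁻¹ = x := inv_eq_of_mul_eq_one_left (h.sq i _ hx)
    have hzx : x * z i = z i * x :=
      h.comm' (one_mem F) (one_mem F) (i := i) (j := i) (x := x) (y := z i) (by rwa [cj_one])
        (by rw [cj_one]; exact h.zV i)
    calc ⁅x, o⁆ = x * (o * x * o⁻¹)⁻¹ := by rw [commutatorElement_def]; group
      _ = x * (x * z i)⁻¹ := by rw [h5]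
      _ = x * ((z i)⁻¹ * x⁻¹) := by rw [mul_inv_rev]
      _ = x * (z i * x) := by rw [hz, hx']
      _ = x * (x * z i) := by rw [hzx]
      _ = z i := by rw [← mul_assoc, h.sq i x hx, one_mul]
  rw [← h6]
  exact commutator_mem_commutator (le_iSup V i hx) hoO

theorem one [Finite G] : One F T F₀ 𝓐 (U0 V) V (fun i => zpowers (z i)) where
  syl := h.syl
  TF₀ := h.TF₀
  F₀F := h.F₀F
  max := h.max
  fam := h.fam
  nJ := h.nJ
  ne := by obtain ⟨i, -, -⟩ := h.two; exact ⟨i⟩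
  UO := h.U0_le
  TU := h.T_nor
  comm := h.Lam_ab.1
  sq := h.Lam_ab.2
  sup := rfl
  H1 := fun i f hf hc => by
    have h1 := h.ti_cent (one_mem F) hf (i := i) (x := z i) (by rw [cj_one]; exact h.zV i) (h.z1 i)
      (hc _ (mem_zpowers _))
    rwa [cj_one] at h1
  H2 := fun A hA hAT i => by
    by_cases hm : ∃ a ∈ A, ∃ x ∈ V i, a * x ≠ x * a
    · right
      obtain ⟨a, ha, x, hx, hax⟩ := hm
      have h1 : a * x * a⁻¹ = x * z i := by
        rcases h.act (hAT ha) (h.nor A hA hAT a ha i) hx with h2 | h2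
        · exact absurd (mul_inv_eq_iff_eq_mul.1 h2) hax
        · exact h2
      rw [zpowers_le]
      refine subset_closure ⟨x, hx, a, ha, ?_⟩
      rw [h1, ← mul_assoc, h.sq i x hx, one_mul]
    · left
      push Not at hm
      exact fun a ha x hx => hm a ha x hx
  H3 := fun i => by
    rw [zpowers_le]
    exact h.z_mem_comm i
  H4 := by
    rintro f ⟨hf, hfn⟩
    obtain ⟨i, -, -⟩ := h.two
    refine h.ti i (z i) (h.zV i) (h.z1 i) f hf ?_
    change z i ∈ cj f (U0 V)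
    rw [cj_eq_of_mem_normalizer hfn]
    exact le_iSup V i (h.zV i)

/-- **STEP 1.** -/
theorem exists_star [Finite G] : ∃ i j : ι, i ≠ j ∧ ∃ c ∈ T, (∀ u ∈ U0 V, c * (c * u * c⁻¹) * c⁻¹ = u) ∧
    cj c (V i) = V j ∧ ∃ a ∈ F, a ∉ F₀ ∧ ∀ x ∈ V i, a * (x * (c * x * c⁻¹)) = x * (c * x * c⁻¹) * a := by
  obtain ⟨c, hc, hc2, ⟨u, hu, hcu⟩, a, ha, han, hE⟩ := h.one.exists_one
  obtain ⟨i, x, hx, hcx⟩ : ∃ i, ∃ x ∈ V i, c * x ≠ x * c := by
    by_contra hcon
    push Not at hcon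
    apply hcu
    have h1 : U0 V ≤ centralizer ({c} : Set G) := iSup_le fun i x hx =>
      mem_centralizer_singleton_iff.2 (hcon i x hx).symm
    exact (mem_centralizer_singleton_iff.1 (h1 hu)).symm
  obtain ⟨j, hj, -⟩ := h.perm c hc i
  refine ⟨i, j, ?_, c, hc, hc2, hj, a, ha, han, fun x hx => hE x (le_iSup V i hx)⟩
  rintro rfl
  apply han
  have h1 : c * x * c⁻¹ ∈ V i := by
    have := conj_mem_cj (g := c) hx
    rwa [hj] at this
  have h2 : x * (c * x * c⁻¹) ∈ V i := mul_mem hx h1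
  have h3 : x * (c * x * c⁻¹) ≠ 1 := by
    intro h4
    have h5 : x⁻¹ = x := inv_eq_of_mul_eq_one_left (h.sq i x hx)
    have h6 : c * x * c⁻¹ = x := by
      rw [mul_eq_one_iff_inv_eq, h5] at h4
      exact h4.symm
    exact hcx (mul_inv_eq_iff_eq_mul.1 h6)
  have h4 := h.ti_cent (one_mem F) ha (i := i) (by rw [cj_one]; exact h2) h3 (hE x (le_iSup V i hx))
  rwa [cj_one] at h4

end SitF

end Cfsg.Agent.Omega.OM.Swap.Fam

end

section


/-!
# THEOREM SW: from the output of the star lemma to the contradiction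

`StarO` = the output of the star lemma; `Sit.false_of`, `SitF.false_of`.
-/

set_option autoImplicit false

namespace Cfsg.Agent.Omega.OM.Swap

open Subgroup Cfsg Cfsg.Agent.ZN Cfsg.Agent.ZN.ChoiceBase Cfsg.Agent.ZN.ChoiceSit
  Cfsg.Agent.MinSimple.VModule Cfsg.Agent.Omega.OmThm
open Cfsg.Agent.MinSimple.MinParabolic (IsMinPar)
open scoped Pointwise commutatorElement

universe u

/-- The output of the star lemma. -/
structure StarO {G : Type u} [Group G] {ι : Type*} (F : Subgroup G) (V : ι → Subgroup G) (z : ι → G) (i j : ι)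
    (D : Subgroup G) (E : Bool → Subgroup G) : Prop where
  ne : i ≠ j
  only : ∀ k, k = i ∨ k = j
  loc : Loc (o2 F) (⨆ k, V k) D (z i * z j)
  Ecard : ∀ b, Nat.card (E b) = 4
  Ene : E true ≠ E false
  EU : ∀ b, ∃ f ∈ F, E b = (⨆ k, V k) ⊓ cj f (⨆ k, V k)
  /-- an element of `O` which moves a `V k` moves every `V l` -/
  both : ∀ o ∈ o2 F, ∀ k l, (∃ x ∈ V k, o * x ≠ x * o) → ∃ x ∈ V l, o * x ≠ x * o

variable {G : Type u} [Group G] {ι : Type*} {F T F₀ : Subgroup G} {𝓐 : Set (Subgroup G)} {V : ι → Subgroup G}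
  {z : ι → G} {i j : ι} {D : Subgroup G} {E : Bool → Subgroup G}

/-- Two different indices. -/
theorem StarO.exists_ne (hs : StarO F V z i j D E) (k : ι) : ∃ l, l ≠ k := by
  rcases hs.only k with rfl | rfl
  · exact ⟨j, hs.ne.symm⟩
  · exact ⟨i, hs.ne⟩

/-- An element which commutes with all `V k` commutes with `⟨V k⟩`. -/
theorem comm_iSup {V : ι → Subgroup G} {a : G} (h : ∀ k, ∀ x ∈ V k, a * x = x * a) {u : G} (hu : u ∈ ⨆ k, V k) :
    a * u = u * a := by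
  have h1 : (⨆ k, V k) ≤ centralizer ({a} : Set G) := iSup_le fun k x hx =>
    mem_centralizer_singleton_iff.2 (h k x hx).symm
  exact (mem_centralizer_singleton_iff.1 (h1 hu)).symm

theorem Sit.false_of [Finite G] (h : Sit F T F₀ V z) (hs : StarO F V z i j D E) : False := by
  refine Two.false (F := F) (T := T) (U := ⨆ k, V k) (D := D) (z := z i * z j) (E := E)
    { syl := h.syl
      par := h.par
      nJ := h.nJ
      TU := h.T_nor
      UO := h.U0_le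
      comm := h.Lam_comm
      sq := h.Lam_sq
      nU := ?_
      loc := hs.loc
      zF := h.zc i j hs.ne hs.only
      Ecard := hs.Ecard
      Ene := hs.Ene
      EU := hs.EU
      cenA := ?_
      non := ?_ }
  · intro hF
    refine h.F₀F.not_ge fun f hf => h.ti i (z i) (h.zV i) (h.z1 i) f hf ?_
    rw [cj_eq_of_mem_normalizer (hF hf)]
    exact le_iSup V i (h.zV i)
  · intro A hA hAO a ha u hu
    have hAT : A ∈ AA T := AA_of_le hA (hAO.trans (o2_le_syl h.syl)) h.syl.1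
    refine comm_iSup (V := V) (fun k x hx => ?_) hu
    by_contra hne
    obtain ⟨a', ha', hm, ht⟩ := h.hat A hAT k ⟨a, ha, x, hx, hne⟩
    obtain ⟨l, hl⟩ := hs.exists_ne k
    obtain ⟨y, hy, hy'⟩ := hs.both a' (hAO ha') k l hm
    exact hy' (ht l hl y hy)
  · have hU : U0 V ≤ Lam V F := by
      have := Sit.cjU_le_Lam (V := V) (one_mem F)
      rwa [cj_one] at this
    refine ⟨z i, commutator_mono hU le_rfl (h.z_mem_comm i), ?_⟩
    by_contra hcon
    push Not at hcon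
    have h1 : oddGen F ≤ F₀ := fun x hx => by
      have h2 := h.ti_cent (one_mem F) ((oddGen_le F) hx) (i := i) (x := z i) (by rw [cj_one]; exact h.zV i) (h.z1 i)
        (hcon x hx).symm
      rwa [cj_one] at h2
    have h2 : F ≤ F₀ := by
      rw [← Dich.oddGen_sup_syl h.syl]
      exact sup_le h1 h.TF₀
    exact h.F₀F.not_ge h2

namespace Fam

theorem SitF.false_of [Finite G] (h : SitF F T F₀ 𝓐 V z) (hs : StarO F V z i j D E) : False := by
  refine Fam.Two.false (F := F) (T := T) (𝓐 := 𝓐) (U := ⨆ k, V k) (D := D) (z := z i * z j) (E := E)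
    { syl := h.syl
      par := ⟨h.TF, h.one.T_not_normal, F₀, h.F₀F, h.max⟩
      fam := h.fam
      nJ := ?_
      TU := h.T_nor
      UO := h.U0_le
      comm := h.Lam_ab.1
      sq := h.Lam_ab.2
      nU := ?_
      loc := hs.loc
      zF := h.zc i j hs.ne hs.only
      Ecard := hs.Ecard
      Ene := hs.Ene
      EU := hs.EU
      cenA := ?_
      non := ?_ }
  · obtain ⟨A, hA, -, hAn⟩ := h.nJ
    exact ⟨A, hA, hAn⟩
  · intro hF
    refine h.F₀F.not_ge fun f hf => h.ti i (z i) (h.zV i) (h.z1 i) f hf ?_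
    rw [cj_eq_of_mem_normalizer (hF hf)]
    exact le_iSup V i (h.zV i)
  · intro A hA hAO a ha u hu
    have hAT : A ≤ T := hAO.trans (o2_le_syl h.syl)
    refine comm_iSup (V := V) (fun k x hx => ?_) hu
    by_contra hne
    obtain ⟨a', ha', hm, ht⟩ := h.hat A hA hAT k ⟨a, ha, x, hx, hne⟩
    obtain ⟨l, hl⟩ := hs.exists_ne k
    obtain ⟨y, hy, hy'⟩ := hs.both a' (hAO ha') k l hm
    exact hy' (ht l hl y hy)
  · have hU : U0 V ≤ NoFF.Basic.V (U0 V) F := by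
      have := NoFF.Basic.Z_le_V (Z := U0 V) (one_mem F)
      change cj 1 (U0 V) ≤ _ at this
      rwa [cj_one] at this
    refine ⟨z i, commutator_mono hU le_rfl (h.z_mem_comm i), ?_⟩
    by_contra hcon
    push Not at hcon
    have h1 : oddGen F ≤ F₀ := fun x hx => by
      have h2 := h.ti_cent (one_mem F) ((oddGen_le F) hx) (i := i) (x := z i) (by rw [cj_one]; exact h.zV i) (h.z1 i)
        (hcon x hx).symm
      rwa [cj_one] at h2
    have h2 : F ≤ F₀ := by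
      rw [← Dich.oddGen_sup_syl h.syl]
      exact sup_le h1 h.TF₀
    exact h.F₀F.not_ge h2

end Fam

end Cfsg.Agent.Omega.OM.Swap

end

section


/-!
# THEOREM SW, the star lemma: coordinates `(Z₂)⁴` for `U = V₁ × V₂` and the group `⟨σ, τ⟩`
-/

set_option autoImplicit false

namespace Cfsg.Agent.Omega.OM.Swap

open Subgroup Cfsg Cfsg.Agent.ZN Cfsg.Agent.ZN.ChoiceBase Cfsg.Agent.ZN.ChoiceSit

universe u

variable {G : Type u} [Group G]

abbrev Z2 : Type := Multiplicative (ZMod 2)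

abbrev M4 : Type := (Z2 × Z2) × (Z2 × Z2)

namespace M4

/-- the generator of `Z2` -/
abbrev g : Z2 := Multiplicative.ofAdd 1

theorem z2_cases : ∀ a : Z2, a = 1 ∨ a = g := by decide

/-- `k.2`: apply `τ` first, `k.1`: then swap. -/
def act (k : Bool × Bool) (m : M4) : M4 :=
  let m1 : M4 := if k.2 then ((m.1.1, m.1.2 * m.1.1), (m.2.1, m.2.2 * m.2.1)) else m
  if k.1 then (m1.2, m1.1) else m1

theorem act_mul : ∀ k : Bool × Bool, ∀ m n : M4, act k (m * n) = act k m * act k n := by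
  rintro ⟨a, b⟩ ⟨⟨m1, m2⟩, ⟨m3, m4⟩⟩ ⟨⟨n1, n2⟩, ⟨n3, n4⟩⟩
  cases a <;> cases b <;> simp [act, mul_mul_mul_comm]

theorem act_one : ∀ k : Bool × Bool, act k 1 = 1 := by decide

/-- `act k` as a homomorphism -/
def actH (k : Bool × Bool) : M4 →* M4 where
  toFun := act k
  map_one' := act_one k
  map_mul' := act_mul k

abbrev e1 : M4 := ((g, 1), (1, 1))
abbrev e2 : M4 := ((1, g), (1, 1))
abbrev e3 : M4 := ((1, 1), (g, 1))
abbrev e4 : M4 := ((1, 1), (1, g))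

theorem gens : ∀ m : M4, ∃ a b c d : Bool, m = (if a then e1 else 1) * (if b then e2 else 1) *
    (if c then e3 else 1) * (if d then e4 else 1) := by decide

theorem hom_ext {H : Type*} [Group H] {f h : M4 →* H} (h1 : f e1 = h e1) (h2 : f e2 = h e2) (h3 : f e3 = h e3)
    (h4 : f e4 = h e4) : f = h := by
  ext m
  obtain ⟨a, b, c, d, rfl⟩ := gens m
  simp only [map_mul, apply_ite f, apply_ite h, map_one, h1, h2, h3, h4]

/-- a homomorphism `Z2 →* G` -/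
def hz (x : G) (hx : x * x = 1) : Z2 →* G where
  toFun a := if a = 1 then 1 else x
  map_one' := by simp
  map_mul' a b := by
    rcases z2_cases a with rfl | rfl <;> rcases z2_cases b with rfl | rfl
    · simp
    · simp
    · simp
    · have : (g * g : Z2) = 1 := by decide
      rw [this, if_pos rfl, if_neg (by decide), hx]

theorem hz_g {x : G} (hx : x * x = 1) : hz x hx g = x := by
  change (if g = 1 then 1 else x) = x
  exact if_neg (by decide)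

/-- `D = {a = d}` -/
def DD : Subgroup M4 where
  carrier := {m | m.1.1 = m.2.1}
  one_mem' := rfl
  mul_mem' := by
    intro m n hm hn
    change (m * n).1.1 = (m * n).2.1
    change m.1.1 = m.2.1 at hm
    change n.1.1 = n.2.1 at hn
    simp only [Prod.fst_mul, Prod.snd_mul, hm, hn]
  inv_mem' := by
    intro m hm
    change m⁻¹.1.1 = m⁻¹.2.1
    change m.1.1 = m.2.1 at hm
    simp only [Prod.fst_inv, Prod.snd_inv, hm]

theorem mem_DD {m : M4} : m ∈ DD ↔ m.1.1 = m.2.1 := Iff.rfl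

/-- the fixed points of `act k` -/
def fixS (k : Bool × Bool) : Subgroup M4 := (actH k).eqLocus (MonoidHom.id M4)

theorem mem_fixS {k : Bool × Bool} {m : M4} : m ∈ fixS k ↔ act k m = m := Iff.rfl

theorem card_fixS : ∀ k : Bool × Bool, k ≠ (false, false) → Nat.card (fixS k) = 4 := by
  have key : ∀ k : Bool × Bool, k ≠ (false, false) → Fintype.card {m : M4 // act k m = m} = 4 := by decide
  intro k hk
  change Nat.card {m : M4 // act k m = m} = 4
  rw [Nat.card_eq_fintype_card]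
  exact key k hk

theorem card_M4 : Nat.card M4 = 16 := by
  rw [Nat.card_eq_fintype_card]
  decide

theorem d_sq : ∀ m : M4, m * m = 1 := by decide

theorem d_s1 : ∀ k m, (m * act k m).1.1 = (m * act k m).2.1 := by decide

theorem d_s2 : ∀ k, ∀ m : M4, m.1.1 = m.2.1 → m * act k m = 1 ∨ m * act k m = e2 * e4 := by decide

theorem d_s3 : ∀ k : Bool × Bool, k ≠ (false, false) → ∀ m : M4, m.1.1 ≠ m.2.1 →
    m * act k m ≠ 1 ∧ m * act k m ≠ e2 * e4 := by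
  have h1 : ∀ m : M4, m.1.1 ≠ m.2.1 → m * act (false, true) m ≠ 1 := by decide
  have h2 : ∀ m : M4, m.1.1 ≠ m.2.1 → m * act (false, true) m ≠ e2 * e4 := by decide
  have h3 : ∀ m : M4, m.1.1 ≠ m.2.1 → m * act (true, false) m ≠ 1 := by decide
  have h4 : ∀ m : M4, m.1.1 ≠ m.2.1 → m * act (true, false) m ≠ e2 * e4 := by decide
  have h5 : ∀ m : M4, m.1.1 ≠ m.2.1 → m * act (true, true) m ≠ 1 := by decide
  have h6 : ∀ m : M4, m.1.1 ≠ m.2.1 → m * act (true, true) m ≠ e2 * e4 := by decide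
  rintro ⟨_ | _, _ | _⟩ hk m hm
  · exact absurd rfl hk
  · exact ⟨h1 m hm, h2 m hm⟩
  · exact ⟨h3 m hm, h4 m hm⟩
  · exact ⟨h5 m hm, h6 m hm⟩

theorem d_c5 : ∀ k m, act k (m * act k m) = m * act k m := by decide

theorem d_s4 (k k' : Bool × Bool) (h : ∀ m, act k m = m ↔ act k' m = m) : k = k' := by
  have a1 : ∀ k : Bool × Bool, act k e2 = e2 ↔ k.1 = false := by decide
  have a2 : ∀ k : Bool × Bool, act k (e1 * e3) = e1 * e3 ↔ k.2 = false := by decide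
  have b1 : k.1 = false ↔ k'.1 = false := (a1 k).symm.trans ((h _).trans (a1 k'))
  have b2 : k.2 = false ↔ k'.2 = false := (a2 k).symm.trans ((h _).trans (a2 k'))
  have c : ∀ a b : Bool, (a = false ↔ b = false) → a = b := by decide
  exact Prod.ext (c _ _ b1) (c _ _ b2)

theorem act_ff : ∀ m, act (false, false) m = m := by decide

theorem d_mv1 : ∀ k : Bool × Bool, k ≠ (false, false) → act k e1 ≠ e1 := by decide

theorem d_mv3 : ∀ k : Bool × Bool, k ≠ (false, false) → act k e3 ≠ e3 := by decide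

/-- the transvection on the first factor -/
def tau (m : M4) : M4 := ((m.1.1, m.1.2 * m.1.1), m.2)

/-- the transvection on the first factor, as a homomorphism -/
def tauH : M4 →* M4 where
  toFun := tau
  map_one' := by decide
  map_mul' := by
    rintro ⟨⟨m1, m2⟩, ⟨m3, m4⟩⟩ ⟨⟨n1, n2⟩, ⟨n3, n4⟩⟩
    simp [tau, mul_mul_mul_comm]

theorem d_tau1 : ∀ m, act (true, false) m = m → act (true, true) (tau m) = tau m := by decide

theorem d_tau2 : ∀ m, act (true, true) m = m → act (true, false) (tau m) = tau m := by decide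

theorem d_tau3 : ∀ m, tau (tau m) = m := by decide

theorem map_tau : (fixS (true, false)).map tauH = fixS (true, true) := by
  ext m
  constructor
  · rintro ⟨n, hn, rfl⟩
    exact mem_fixS.2 (d_tau1 n (mem_fixS.1 hn))
  · intro hm
    exact ⟨tau m, mem_fixS.2 (d_tau2 m (mem_fixS.1 hm)), d_tau3 m⟩

theorem d_fix : ∀ p q : Z2 × Z2, act (true, false) (p, q) = (p, q) → q = p := by decide

theorem d_fix' : ∀ p : Z2 × Z2, act (true, false) (p, p) = (p, p) := by decide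

theorem d_fix2 : ∀ p q : Z2 × Z2, q * p = 1 → q = p := by decide

theorem fixS_ne : fixS (true, false) ≠ fixS (true, true) := by
  intro h
  have h1 : (e1 * e3) ∈ fixS (true, false) := mem_fixS.2 (by decide)
  rw [h] at h1
  exact absurd (mem_fixS.1 h1) (by decide)

end M4

open M4

theorem loc_of {O U : Subgroup G} {φ : M4 →* G} (hφ : Function.Injective φ) (hr : φ.range = U)
    (hO : ∀ o ∈ O, ∃ k, ∀ m, o * φ m * o⁻¹ = φ (act k m)) : Loc O U (DD.map φ) (φ (e2 * e4)) := by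
  subst hr
  have hne : ∀ {o : G} {k : Bool × Bool}, (∀ m, o * φ m * o⁻¹ = φ (act k m)) →
      (∃ u ∈ φ.range, o * u ≠ u * o) → k ≠ (false, false) := by
    rintro o k hk ⟨_, ⟨m, rfl⟩, hm⟩ rfl
    apply hm
    have := hk m
    rw [act_ff] at this
    rw [← mul_inv_eq_iff_eq_mul]
    exact this
  have hce : ∀ {o : G} {k : Bool × Bool}, (∀ m, o * φ m * o⁻¹ = φ (act k m)) →
      ce φ.range o = (fixS k).map φ := by
    intro o k hk
    ext x
    rw [mem_ce]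
    constructor
    · rintro ⟨⟨m, rfl⟩, hm⟩
      refine ⟨m, ?_, rfl⟩
      rw [← mul_inv_eq_iff_eq_mul, hk] at hm
      exact mem_fixS.2 (hφ hm)
    · rintro ⟨m, hm, rfl⟩
      refine ⟨⟨m, rfl⟩, ?_⟩
      rw [← mul_inv_eq_iff_eq_mul, hk, mem_fixS.1 hm]
  refine ⟨?_, ?_, ?_, ?_, ⟨_, rfl⟩, ?_, ?_, ?_, ?_, ?_, ?_, ?_, ?_, ?_⟩
  · rw [← card_M4]
    exact (Nat.card_congr (MonoidHom.ofInjective hφ).toEquiv).symm
  · rintro _ ⟨m, rfl⟩ _ ⟨n, rfl⟩
    rw [← map_mul, ← map_mul, mul_comm]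
  · rintro _ ⟨m, rfl⟩
    rw [← map_mul, d_sq, map_one]
  · rintro o ho _ ⟨m, rfl⟩
    obtain ⟨k, hk⟩ := hO o ho
    rw [hk]
    exact ⟨_, rfl⟩
  · intro h1
    rw [← map_one φ] at h1
    exact absurd (hφ h1) (by decide)
  · rintro _ ⟨m, -, rfl⟩
    exact ⟨m, rfl⟩
  · refine ⟨φ e1, ⟨_, rfl⟩, ?_⟩
    rintro ⟨m, hm, he⟩
    rw [hφ he] at hm
    exact absurd (mem_DD.1 hm) (by decide)
  · rintro o ho _ ⟨m, rfl⟩
    obtain ⟨k, hk⟩ := hO o ho
    rw [hk, ← map_mul]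
    exact ⟨_, mem_DD.2 (d_s1 k m), rfl⟩
  · rintro o ho _ ⟨m, hm, rfl⟩
    obtain ⟨k, hk⟩ := hO o ho
    rw [hk, ← map_mul]
    rcases d_s2 k m (mem_DD.1 hm) with h1 | h1
    · left; rw [h1, map_one]
    · right; rw [h1]
  · rintro o ho hm _ ⟨m, rfl⟩ hmD
    obtain ⟨k, hk⟩ := hO o ho
    rw [hk, ← map_mul]
    have h1 : m.1.1 ≠ m.2.1 := fun h => hmD ⟨m, mem_DD.2 h, rfl⟩
    obtain ⟨h2, h3⟩ := d_s3 k (hne hk hm) m h1
    exact ⟨fun h => h2 (hφ (by rw [h, map_one])), fun h => h3 (hφ h)⟩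
  · intro o ho hm
    obtain ⟨k, hk⟩ := hO o ho
    rw [hce hk, PLocal.ThompsonJ.card_map_injective _ hφ, card_fixS k (hne hk hm)]
  · rintro o ho _ ⟨m, rfl⟩
    obtain ⟨k, hk⟩ := hO o ho
    rw [hk, ← map_mul, hk, d_c5]
  · rintro o ho o' ho' he _ ⟨m, rfl⟩
    obtain ⟨k, hk⟩ := hO o ho
    obtain ⟨k', hk'⟩ := hO o' ho'
    rw [hce hk, hce hk'] at he
    have he' := Subgroup.map_injective hφ he
    have : k = k' := d_s4 k k' fun m => by
      rw [← mem_fixS, ← mem_fixS, he']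
    rw [hk, hk', this]

end Cfsg.Agent.Omega.OM.Swap

end
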